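import Groth.Agent.Lib.AB5.Basic
import Groth.Agent.Lib.RegLoc.GlobalDim
import Groth.Agent.Lib.FlatDepth.Fibre
import Groth.Agent.Lib.FlatCx.Cochain
import Mathlib.RingTheory.Flat.EquationalCriterion

/-!
# Depth of closed fibres of flat modules: syzygies and freeness
-/

set_option autoImplicit false
set_option linter.style.haveILetI false
set_option linter.unusedSectionVars false

universe u

namespace Groth.Agent.RelES12

open IsLocalRing

variable {R S : Type u} [CommRing R] [CommRing S] [Algebra R S]
variable {F M : Type u} [AddCommGroup F] [Module S F] [AddCommGroup M] [Module S M]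
variable [Module R F] [IsScalarTower R S F] [Module R M] [IsScalarTower R S M]

/-- For a surjection onto a flat module, the kernel meets `mF` in `m` times itself. -/
theorem mem_smul_ker_of_flat [Module.Flat R M] (f : F →ₗ[S] M) (hf : Function.Surjective f) (m : Ideal R)
    {x : F} (hx : f x = 0) (hxm : x ∈ m.map (algebraMap R S) • (⊤ : Submodule S F)) :
    x ∈ m.map (algebraMap R S) • LinearMap.ker f := by
  classical
  have h1 : x ∈ m • (⊤ : Submodule R F) := by
    rw [← Submodule.restrictScalars_top R S F, ← Ideal.smul_restrictScalars]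
    exact hxm
  obtain ⟨n, c, y, hc, hsum⟩ : ∃ (n : ℕ) (c : Fin n → R) (y : Fin n → F),
      (∀ i, c i ∈ m) ∧ ∑ i, c i • y i = x := by
    refine Submodule.smul_induction_on h1 (fun a ha z _ => ⟨1, fun _ => a, fun _ => z, fun _ => ha, by simp⟩)
      fun a b ⟨n, c, y, hc, hs⟩ ⟨n', c', y', hc', hs'⟩ => ⟨n + n', Fin.append c c', Fin.append y y', fun i => ?_, ?_⟩
    · refine Fin.addCases (fun j => ?_) (fun j => ?_) i
      · simpa using hc j
      · simpa using hc' j
    · rw [Fin.sum_univ_add, ← hs, ← hs']
      simp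
  have h2 : ∑ i, c i • f (y i) = 0 := by
    rw [← hx, ← hsum, map_sum]
    exact Finset.sum_congr rfl fun i _ => (f.map_smul_of_tower _ _).symm
  obtain ⟨κ, a, z, hz, ha⟩ := Module.Flat.isTrivialRelation_of_sum_smul_eq_zero h2
  choose w hw using fun j => hf (z j)
  let y' : Fin n → F := fun i => y i - ∑ j, a i j • w j
  have hy' : ∀ i, y' i ∈ LinearMap.ker f := fun i => by
    rw [LinearMap.mem_ker, map_sub, map_sum, show f (y i) = _ from hz i, sub_eq_zero]
    exact Finset.sum_congr rfl fun j _ => by rw [f.map_smul_of_tower, hw]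
  have hx' : x = ∑ i, c i • y' i := by
    simp only [y', smul_sub, Finset.sum_sub_distrib, Finset.smul_sum, smul_smul]
    rw [Finset.sum_comm]
    simp only [← Finset.sum_smul, ha, zero_smul, Finset.sum_const_zero, sub_zero, hsum]
  rw [hx']
  refine Submodule.sum_mem _ fun i _ => ?_
  rw [← IsScalarTower.algebraMap_smul S (c i) (y' i)]
  exact Submodule.smul_mem_smul (Ideal.mem_map_of_mem _ (hc i)) (hy' i)

variable [IsLocalRing S] [IsNoetherianRing S]

variable (S) in
/-- Depth of the quotient by an ideal, over the ring. -/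
noncomputable abbrev fdepth (I : Ideal S) (M : Type u) [AddCommGroup M] [Module S M] : ℕ∞ :=
  LocCoh.depth S (M ⧸ I • (⊤ : Submodule S M))

theorem depth_quot_eq (I : Ideal S) (hI : I ≤ maximalIdeal S) (N : Type u) [AddCommGroup N] [Module S N] :
    haveI : IsLocalRing (S ⧸ I) :=
      haveI : Nontrivial (S ⧸ I) := Ideal.Quotient.nontrivial_iff.2 fun h => (maximalIdeal.isMaximal S).ne_top (top_le_iff.1 (h ▸ hI))
      IsLocalRing.of_surjective' _ Ideal.Quotient.mk_surjective
    fdepth S I N = LocCoh.depth (S ⧸ I) (N ⧸ I • (⊤ : Submodule S N)) := by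
  haveI : Nontrivial (S ⧸ I) := Ideal.Quotient.nontrivial_iff.2 fun h => (maximalIdeal.isMaximal S).ne_top (top_le_iff.1 (h ▸ hI))
  haveI : IsLocalRing (S ⧸ I) := IsLocalRing.of_surjective' _ Ideal.Quotient.mk_surjective
  exact FlatDepth.depth_eq_of_surjective _ Ideal.Quotient.mk_surjective

/-- Base case: full depth of the closed fibre gives freeness. -/
theorem free_of_fdepth [Module.Finite S M] [Module.Flat R M] (m : Ideal R)
    (hm : m.map (algebraMap R S) ≤ maximalIdeal S) (hreg : IsRegularLocalRing (S ⧸ m.map (algebraMap R S)))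
    (r : ℕ) (hr : LocCoh.depth (S ⧸ m.map (algebraMap R S)) (S ⧸ m.map (algebraMap R S)) = r)
    (h : (r : ℕ∞) ≤ fdepth S (m.map (algebraMap R S)) M) : Module.Free S M := by
  classical
  set I := m.map (algebraMap R S) with hI
  haveI := hreg
  haveI : Module.Finite (S ⧸ I) (M ⧸ I • (⊤ : Submodule S M)) := Module.Finite.of_restrictScalars_finite S _ _
  rw [depth_quot_eq I hm] at h
  haveI : Module.Projective (S ⧸ I) (M ⧸ I • (⊤ : Submodule S M)) :=
    AB5.projective_of_depth_ge r _ hr _ ⟨_, RegLoc.pd_le_spanFinrank _ _ rfl _⟩ h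
  haveI : Module.Free (S ⧸ I) (M ⧸ I • (⊤ : Submodule S M)) := Module.free_of_flat_of_isLocalRing
  let b := Module.finBasis (S ⧸ I) (M ⧸ I • (⊤ : Submodule S M))
  choose v hv using fun i => Submodule.Quotient.mk_surjective _ (b i)
  let f : (Fin _ → S) →ₗ[S] M := Fintype.linearCombination S v
  have hrange : ⊤ ≤ LinearMap.range f := by
    refine Submodule.le_of_le_smul_of_le_jacobson_bot Module.Finite.fg_top
      (hm.trans (jacobson_eq_maximalIdeal ⊥ bot_ne_top).ge) ?_
    intro x _
    choose c hc using fun i => Ideal.Quotient.mk_surjective (b.repr (Submodule.Quotient.mk x) i)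
    refine Submodule.mem_sup.2 ⟨f c, LinearMap.mem_range_self f c, x - f c, ?_, add_sub_cancel _ _⟩
    rw [← Submodule.Quotient.mk_eq_zero, Submodule.Quotient.mk_sub, sub_eq_zero]
    conv_lhs => rw [← b.sum_repr (Submodule.Quotient.mk x)]
    rw [Fintype.linearCombination_apply]
    show _ = Submodule.mkQ _ (∑ i, c i • v i)
    rw [map_sum]
    refine Finset.sum_congr rfl fun i _ => ?_
    rw [map_smul, Submodule.mkQ_apply, hv, ← hc]
    rfl
  have hf : Function.Surjective f := LinearMap.range_eq_top.1 (top_le_iff.1 hrange)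
  have hker : LinearMap.ker f = ⊥ := by
    refine Submodule.eq_bot_of_le_smul_of_le_jacobson_bot I _ (IsNoetherian.noetherian _) ?_
      (hm.trans (jacobson_eq_maximalIdeal ⊥ bot_ne_top).ge)
    intro x hx
    have h0 : Submodule.Quotient.mk (f x) = (0 : M ⧸ I • (⊤ : Submodule S M)) := by
      rw [LinearMap.mem_ker.1 hx]; rfl
    rw [Fintype.linearCombination_apply, ← Submodule.mkQ_apply, map_sum] at h0
    simp only [map_smul, Submodule.mkQ_apply, hv] at h0
    have h1 := Fintype.linearIndependent_iff.1 b.linearIndependent (fun i => Ideal.Quotient.mk _ (x i))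
      (by rw [← h0]; rfl)
    refine mem_smul_ker_of_flat (R := R) f hf m (LinearMap.mem_ker.1 hx) ?_
    rw [pi_eq_sum_univ' x]
    exact Submodule.sum_mem _ fun i _ => Submodule.smul_mem_smul (Ideal.Quotient.eq_zero_iff_mem.1 (h1 i)) trivial
  exact Module.Free.of_equiv (LinearEquiv.ofBijective f ⟨LinearMap.ker_eq_bot.1 hker, hf⟩)

/-- Induction step: the depth of the closed fibre of a syzygy. -/
theorem fdepth_ker [Module.Flat R S] [Module.Flat R M] [Module.Finite S M] [Module.Free S F] [Module.Finite S F]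
    (m : Ideal R) (hm : m.map (algebraMap R S) ≤ maximalIdeal S)
    [IsLocalRing (S ⧸ m.map (algebraMap R S))] {K : Type u} [AddCommGroup K] [Module S K] [Module.Finite S K]
    (g : K →ₗ[S] F) (f : F →ₗ[S] M) (hg : Function.Injective g) (hgf : Function.Exact g f)
    (hf : Function.Surjective f) (r : ℕ)
    (hr : LocCoh.depth (S ⧸ m.map (algebraMap R S)) (S ⧸ m.map (algebraMap R S)) = r) (d : ℕ∞) (hd : d ≤ r)
    (h : d ≤ fdepth S (m.map (algebraMap R S)) M + 1) : d ≤ fdepth S (m.map (algebraMap R S)) K := by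
  set I := m.map (algebraMap R S) with hI
  let g' : K ⧸ I • (⊤ : Submodule S K) →ₗ[S] F ⧸ I • (⊤ : Submodule S F) :=
    Submodule.mapQ _ _ g (Submodule.smul_top_le_comap_smul_top I g)
  let f' : F ⧸ I • (⊤ : Submodule S F) →ₗ[S] M ⧸ I • (⊤ : Submodule S M) :=
    Submodule.mapQ _ _ f (Submodule.smul_top_le_comap_smul_top I f)
  have hgi : Function.Injective g' := by
    refine (injective_iff_map_eq_zero _).2 fun k hk => ?_
    obtain ⟨k, rfl⟩ := Submodule.Quotient.mk_surjective _ k
    rw [Submodule.mapQ_apply, Submodule.Quotient.mk_eq_zero] at hk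
    rw [Submodule.Quotient.mk_eq_zero]
    have h1 := mem_smul_ker_of_flat (R := R) f hf m (hgf.apply_apply_eq_zero k) hk
    rw [LinearMap.exact_iff.1 hgf, ← Submodule.map_top g, ← Submodule.map_smul''] at h1
    obtain ⟨k', hk', he⟩ := h1
    rwa [← hg he]
  have hfs : Function.Surjective f' := fun y => by
    obtain ⟨y, rfl⟩ := Submodule.Quotient.mk_surjective _ y
    obtain ⟨x, rfl⟩ := hf y
    exact ⟨Submodule.Quotient.mk x, rfl⟩
  have hex : Function.Exact g' f' := fun z => by
    constructor
    · intro hz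
      obtain ⟨z, rfl⟩ := Submodule.Quotient.mk_surjective _ z
      rw [Submodule.mapQ_apply, Submodule.Quotient.mk_eq_zero] at hz
      have h2 : f z ∈ Submodule.map f (I • (⊤ : Submodule S F)) := by
        rw [Submodule.map_smul'', Submodule.map_top, LinearMap.range_eq_top.2 hf]
        exact hz
      obtain ⟨z', hz', he⟩ := h2
      obtain ⟨k, hk⟩ := (hgf (z - z')).1 (by rw [map_sub, he, sub_self])
      refine ⟨Submodule.Quotient.mk k, ?_⟩
      rw [Submodule.mapQ_apply, hk, Submodule.Quotient.eq]
      simpa using Submodule.neg_mem _ hz'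
    · rintro ⟨k, rfl⟩
      obtain ⟨k, rfl⟩ := Submodule.Quotient.mk_surjective _ k
      show Submodule.Quotient.mk (f (g k)) = 0
      rw [hgf.apply_apply_eq_zero k]
      rfl
  have hineq := (DepthLib.idealDepth_shortExact (I := maximalIdeal S)
    (DepthLib.shortExact_of_linearMap hgi hfs hex)).2.2
  refine le_trans (le_min ?_ h) hineq
  change d ≤ fdepth S I F
  rcases subsingleton_or_nontrivial F with hs | hs
  · haveI : Subsingleton (F ⧸ I • (⊤ : Submodule S F)) :=
      (Submodule.Quotient.mk_surjective (I • (⊤ : Submodule S F))).subsingleton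
    rw [fdepth, LocCoh.depth, DepthLib.idealDepth_of_smul_top_eq_top (Subsingleton.elim _ _)]
    exact le_top
  · haveI : Nontrivial (S ⧸ I) := Ideal.Quotient.nontrivial_iff.2 fun h => (maximalIdeal.isMaximal S).ne_top (top_le_iff.1 (h ▸ hm))
    haveI : IsLocalRing (S ⧸ I) := IsLocalRing.of_surjective' _ Ideal.Quotient.mk_surjective
    haveI : Module.Finite (S ⧸ I) (F ⧸ I • (⊤ : Submodule S F)) := Module.Finite.of_restrictScalars_finite S _ _
    haveI : Module.Projective (S ⧸ I) (F ⧸ I • (⊤ : Submodule S F)) :=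
      Module.Projective.of_equiv (LinearEquiv.extendScalarsOfSurjective Ideal.Quotient.mk_surjective
        (TensorProduct.quotTensorEquivQuotSMul F I))
    haveI : Nontrivial (F ⧸ I • (⊤ : Submodule S F)) := Submodule.Quotient.nontrivial_iff.2
      (DepthLib.smul_top_ne_top (M := F) (fun h => (maximalIdeal.isMaximal S).ne_top (top_le_iff.1 (h ▸ hm))))
    rw [depth_quot_eq I hm, AB5.depth_of_projective, hr]
    exact hd

end Groth.Agent.RelES12
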