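import Groth.Agent.Lib.RelES12.Alg
import Groth.Agent.Lib.TensorMod.PullStalk
import Groth.Agent.Lib.DivDesc12.Fibre
import Groth.Agent.Lib.FlatDepth.FibreStalk
import Groth.Agent.Lib.EnriquesSeveri11.DepthVan
import Groth.Agent.Lib.CohFound.DevissageModel
import Groth.Agent.Lib.SmDim19.Basic
import Groth.Agent.Lib.SmoothReg17.Basic
import Groth.Prelude.Def_CInt
import Groth.Prelude.Def_FlatMod2

/-!
# Depth in closed fibres at the level of stalks
-/

set_option autoImplicit false
set_option linter.style.haveILetI false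
set_option linter.unusedSectionVars false
set_option backward.isDefEq.respectTransparency false

universe u

open CategoryTheory CategoryTheory.Limits AlgebraicGeometry TopologicalSpace TensorProduct

noncomputable section

namespace Groth.Agent.RelES12

open Groth.Agent

variable {X S : Scheme.{u}} (f : X ⟶ S)

/-- The ideal of the fibre in the local ring. -/
abbrev fI (x : X) : Ideal (X.presheaf.stalk x) :=
  (IsLocalRing.maximalIdeal (S.presheaf.stalk (f x))).map (f.stalkMap x).hom

theorem fI_le (x : X) : fI f x ≤ IsLocalRing.maximalIdeal (X.presheaf.stalk x) := by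
  haveI : IsLocalHom (f.stalkMap x).hom := f.toLRSHom.prop x
  refine Ideal.map_le_iff_le_comap.2 fun a ha => ?_
  rw [Ideal.mem_comap, IsLocalRing.mem_maximalIdeal, map_mem_nonunits_iff]
  exact ha

/-- The depth of the fibre of `F` at `x`. -/
abbrev fdep (F : X.Modules) (x : X) : ℕ∞ :=
  fdepth (X.presheaf.stalk x) (fI f x) (F.presheaf.stalk x)

theorem fiberDepth_aux (F : X.Modules) [IsLocallyNoetherian X] {x : X} {y : S} (hx : f x = y) (h : f x ⤳ y)
    (z : f.fiber y) (hz : f.fiberι y z = x) :
    fdepth (X.presheaf.stalk x)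
        ((IsLocalRing.maximalIdeal (S.presheaf.stalk y)).map (DivDesc12.σ f x h)) (F.presheaf.stalk x) =
      LocCoh.depth ((f.fiber y).presheaf.stalk z)
        (((Scheme.Modules.pullback (f.fiberι y)).obj F).presheaf.stalk z) := by
  subst hz
  let ι := f.fiberι y
  letI : Algebra (X.presheaf.stalk (ι z)) ((f.fiber y).presheaf.stalk z) := (ι.stalkMap z).hom.toAlgebra
  let B := (f.fiber y).presheaf.stalk z
  let I := (IsLocalRing.maximalIdeal (S.presheaf.stalk y)).map (DivDesc12.σ f (ι z) h)
  let M := (F.presheaf.stalk (ι z) : Type u)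
  have hs : Function.Surjective (algebraMap (X.presheaf.stalk (ι z)) B) := ι.stalkMap_surjective z
  have hk : I = RingHom.ker (algebraMap (X.presheaf.stalk (ι z)) B) :=
    (Ideal.ext fun b => DivDesc12.stalkMap_fiberι_eq_zero_iff f _ hx h z rfl b).symm
  let q : (X.presheaf.stalk (ι z) ⧸ I) ≃ₗ[X.presheaf.stalk (ι z)] B :=
    (Submodule.quotEquivOfEq _ _ (by
      ext b
      rw [hk, RingHom.mem_ker, LinearMap.mem_ker, Algebra.linearMap_apply])).trans
      ((Algebra.linearMap (X.presheaf.stalk (ι z)) B).quotKerEquivOfSurjective hs)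
  let e1 : (M ⧸ I • (⊤ : Submodule (X.presheaf.stalk (ι z)) M)) ≃ₗ[X.presheaf.stalk (ι z)]
      B ⊗[X.presheaf.stalk (ι z)] M :=
    (TensorProduct.quotTensorEquivQuotSMul M I).symm.trans (TensorProduct.congr q (LinearEquiv.refl _ M))
  show LocCoh.depth (X.presheaf.stalk (ι z)) _ = _
  rw [LocCoh.depth, DepthLib.idealDepth_congr e1]
  refine (FlatDepth.depth_eq_of_surjective (B ⊗[X.presheaf.stalk (ι z)] M) hs).trans ?_
  exact DepthLib.idealDepth_congr (M2.pullStalkEquiv ι z F)

theorem fdep_eq_fiberDepth (F : X.Modules) [IsLocallyNoetherian X] (x : X) :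
    fdep f F x = CInt.fiberDepth f F x := by
  have hσ : DivDesc12.σ f x specializes_rfl = (f.stalkMap x).hom := RingHom.ext fun a => by
    show f.stalkMap x (DivDesc12.sp specializes_rfl a) = _
    rw [DivDesc12.sp_self]
  refine Eq.trans ?_ (fiberDepth_aux f F rfl specializes_rfl (f.asFiber x) (f.fiberι_asFiber x))
  rw [hσ]

theorem fdep_congr {F G : X.Modules} (x : X)
    (e : (F.presheaf.stalk x : Type u) ≃ₗ[X.presheaf.stalk x] (G.presheaf.stalk x : Type u)) :
    fdep f F x = fdep f G x :=
  DepthLib.idealDepth_congr (Submodule.Quotient.equiv _ _ e (by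
    rw [Submodule.map_smul'', Submodule.map_top, LinearMap.range_eq_top.2 e.surjective]))

theorem isFlatOverAt_congr {F G : X.Modules} (x : X)
    (e : (F.presheaf.stalk x : Type u) ≃ₗ[X.presheaf.stalk x] (G.presheaf.stalk x : Type u))
    (h : FlatMod.IsFlatOverAt f F x) : FlatMod.IsFlatOverAt f G x := by
  letI := FlatMod.moduleStalkOver f F x
  letI := FlatMod.moduleStalkOver f G x
  haveI : Module.Flat (S.presheaf.stalk (f x)) (F.presheaf.stalk x) := h
  let e' : (G.presheaf.stalk x : Type u) ≃ₗ[S.presheaf.stalk (f x)] (F.presheaf.stalk x : Type u) :=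
    { e.symm.toAddEquiv with map_smul' := fun r m => e.symm.map_smul (f.stalkMap x r) m }
  exact Module.Flat.of_linearEquiv e'

theorem nonempty_tensor_equiv {F N : X.Modules} (hN : PicF.IsInvertible N) (x : X) :
    Nonempty ((CohB1.tensorMod F N).presheaf.stalk x ≃ₗ[X.presheaf.stalk x] F.presheaf.stalk x) := by
  obtain ⟨eN⟩ := CurveCoh17.nonempty_stalk_equiv ((M2.isInvertible_iff_isFinLocFreeOfRank_one N).1 hN) x
  exact ⟨(M2.stalkEquiv F N x).trans ((TensorProduct.congr (LinearEquiv.refl _ _)
    (eN.trans (LinearEquiv.funUnique (Fin 1) (X.presheaf.stalk x) (X.presheaf.stalk x)))).trans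
    (TensorProduct.rid _ _))⟩

section Push

variable {P : Scheme.{u}} (g : P ⟶ S) (j : X ⟶ P) [IsClosedImmersion j]

theorem fdep_push [IsLocallyNoetherian P] [IsLocallyNoetherian X] (N : X.Modules) (z : X) :
    fdep g ((Scheme.Modules.pushforward j).obj N) (j z) = fdep (j ≫ g) N z := by
  letI : Algebra (P.presheaf.stalk (j z)) (X.presheaf.stalk z) := (j.stalkMap z).hom.toAlgebra
  letI : Module (P.presheaf.stalk (j z)) (N.presheaf.stalk z) := Module.compHom _ (j.stalkMap z).hom
  haveI : IsScalarTower (P.presheaf.stalk (j z)) (X.presheaf.stalk z) (N.presheaf.stalk z) :=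
    IsScalarTower.of_algebraMap_smul fun r n => rfl
  let g0 := AddEquiv.ofBijective (CohFound.pushStalk j N z).hom (CohFound.bijective_pushStalk j N z)
  let gl : ((Scheme.Modules.pushforward j).obj N).presheaf.stalk (j z) ≃ₗ[P.presheaf.stalk (j z)]
      N.presheaf.stalk z :=
    { g0 with map_smul' := fun c a => CohFound.pushStalk_smul j N z c a }
  have hI : (fI g (j z)).map (algebraMap (P.presheaf.stalk (j z)) (X.presheaf.stalk z)) = fI (j ≫ g) z := by
    show ((IsLocalRing.maximalIdeal _).map (g.stalkMap (j z)).hom).map (j.stalkMap z).hom = _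
    rw [Ideal.map_map, ← CommRingCat.hom_comp, ← Scheme.Hom.stalkMap_comp]
    rfl
  have hsub : fI g (j z) • (⊤ : Submodule (P.presheaf.stalk (j z)) (N.presheaf.stalk z)) =
      (fI (j ≫ g) z • (⊤ : Submodule (X.presheaf.stalk z) (N.presheaf.stalk z))).restrictScalars _ := by
    rw [← hI, Ideal.smul_restrictScalars, Submodule.restrictScalars_top]
  let e1 : (((Scheme.Modules.pushforward j).obj N).presheaf.stalk (j z) ⧸
      fI g (j z) • (⊤ : Submodule (P.presheaf.stalk (j z)) _)) ≃ₗ[P.presheaf.stalk (j z)]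
      (N.presheaf.stalk z ⧸ fI (j ≫ g) z • (⊤ : Submodule (X.presheaf.stalk z) (N.presheaf.stalk z))) :=
    (Submodule.Quotient.equiv _ ((fI (j ≫ g) z • (⊤ : Submodule (X.presheaf.stalk z)
      (N.presheaf.stalk z))).restrictScalars (P.presheaf.stalk (j z))) gl (by
        rw [Submodule.map_smul'', Submodule.map_top, LinearMap.range_eq_top.2 gl.surjective, hsub])).trans
      (Submodule.Quotient.restrictScalarsEquiv _ _)
  exact (DepthLib.idealDepth_congr e1).trans
    (FlatDepth.depth_eq_of_surjective _ (j.stalkMap_surjective z))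

theorem fdep_push_notMem [IsLocallyNoetherian P] (N : X.Modules) {y : P} (hy : y ∉ Set.range j) :
    fdep g ((Scheme.Modules.pushforward j).obj N) y = ⊤ := by
  haveI : Subsingleton (((Scheme.Modules.pushforward j).obj N).presheaf.stalk y) :=
    ⟨fun a b => (M1.eq_zero_stalk_push j N hy a).trans (M1.eq_zero_stalk_push j N hy b).symm⟩
  haveI : Subsingleton ((((Scheme.Modules.pushforward j).obj N).presheaf.stalk y : Type u) ⧸
      fI g y • (⊤ : Submodule (P.presheaf.stalk y) (((Scheme.Modules.pushforward j).obj N).presheaf.stalk y))) :=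
    (Submodule.Quotient.mk_surjective _).subsingleton
  exact DepthLib.idealDepth_of_smul_top_eq_top (Subsingleton.elim _ _)

theorem isFlatOver_push (N : X.Modules) (h : FlatMod.IsFlatOver (j ≫ g) N) :
    FlatMod.IsFlatOver g ((Scheme.Modules.pushforward j).obj N) := by
  intro y
  letI := FlatMod.moduleStalkOver g ((Scheme.Modules.pushforward j).obj N) y
  show Module.Flat (S.presheaf.stalk (g y)) _
  by_cases hy : y ∈ Set.range j
  · obtain ⟨z, rfl⟩ := hy
    letI := FlatMod.moduleStalkOver (j ≫ g) N z
    haveI : Module.Flat (S.presheaf.stalk ((j ≫ g) z)) (N.presheaf.stalk z) := h z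
    let g0 := AddEquiv.ofBijective (CohFound.pushStalk j N z).hom (CohFound.bijective_pushStalk j N z)
    letI : Module (S.presheaf.stalk (g (j z))) (N.presheaf.stalk z) :=
      (inferInstance : Module (S.presheaf.stalk ((j ≫ g) z)) (N.presheaf.stalk z))
    haveI : Module.Flat (S.presheaf.stalk (g (j z))) (N.presheaf.stalk z) := h z
    let gl : ((Scheme.Modules.pushforward j).obj N).presheaf.stalk (j z) ≃ₗ[S.presheaf.stalk (g (j z))]
        N.presheaf.stalk z :=
      { g0 with map_smul' := fun c a => (CohFound.pushStalk_smul j N z (g.stalkMap (j z) c) a).trans (by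
          refine congrArg (· • _) ?_
          rw [Scheme.Hom.stalkMap_comp]
          rfl) }
    exact Module.Flat.of_linearEquiv gl
  · haveI : Subsingleton (((Scheme.Modules.pushforward j).obj N).presheaf.stalk y) :=
      ⟨fun a b => (M1.eq_zero_stalk_push j N hy a).trans (M1.eq_zero_stalk_push j N hy b).symm⟩
    infer_instance

end Push

/-- Closed fibres of a smooth morphism are regular of the relative dimension. -/
theorem regular_fibre {r : ℕ} [SmoothOfRelativeDimension r f] {x : X} (hx : IsClosed ({x} : Set X)) :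
    IsRegularLocalRing (X.presheaf.stalk x ⧸ fI f x) ∧
      ∀ [IsLocalRing (X.presheaf.stalk x ⧸ fI f x)],
        LocCoh.depth (X.presheaf.stalk x ⧸ fI f x) (X.presheaf.stalk x ⧸ fI f x) = r := by
  haveI := smoothOfRelativeDimension_isStableUnderBaseChange r
  haveI : SmoothOfRelativeDimension r (f.fiberToSpecResidueField (f x)) :=
    MorphismProperty.pullback_snd _ _ inferInstance
  haveI : Smooth (f.fiberToSpecResidueField (f x)) := SmoothOfRelativeDimension.smooth r _
  let z := f.asFiber x
  haveI : IsRegularLocalRing ((f.fiber (f x)).presheaf.stalk z) :=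
    SmoothReg17.isRegularLocalRing_stalk (f.fiberToSpecResidueField (f x)) z
  have hz : IsClosed ({z} : Set (f.fiber (f x))) := by
    convert hx.preimage (f.fiberι (f x)).continuous using 1
    ext w
    simp only [Set.mem_singleton_iff, Set.mem_preimage]
    refine ⟨fun h => h ▸ f.fiberι_asFiber x, fun h => (f.fiberι (f x)).isEmbedding.injective ?_⟩
    exact h.trans (f.fiberι_asFiber x).symm
  have hdim := SmDim19.ringKrullDim_stalk_of_isClosed (n := r) (f := f.fiberToSpecResidueField (f x)) hz
  obtain ⟨e⟩ := FlatDepth.nonempty_fiberStalkEquiv f x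
  haveI hreg : IsRegularLocalRing (X.presheaf.stalk x ⧸ fI f x) :=
    IsRegularLocalRing.of_ringEquiv e.symm
  refine ⟨hreg, ?_⟩
  intro _
  haveI := DepthLib.isCohenMacaulayLocalRing_of_isRegularLocalRing (R := X.presheaf.stalk x ⧸ fI f x)
  have h := (LocCoh.IsCohenMacaulayLocalRing.supportDim_eq_depth (R := X.presheaf.stalk x ⧸ fI f x))
  rw [Module.supportDim_self_eq_ringKrullDim, ringKrullDim_eq_of_ringEquiv e, hdim] at h
  exact_mod_cast h.symm

end Groth.Agent.RelES12
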