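import Groth.Agent.Lib.RelES12.Proper
import Groth.Agent.Lib.TateZero11.Lim
import Groth.Agent.Lib.CurveCoh17.TensorExact
import Groth.Agent.Lib.CurveCoh17.IdealPow
import Groth.Agent.Lib.Snapper.Divisor

/-!
# Powers of a regular invertible ideal and the formal limit
-/

set_option autoImplicit false
set_option linter.style.haveILetI false
set_option linter.unusedSectionVars false
set_option backward.isDefEq.respectTransparency false

universe u

open CategoryTheory CategoryTheory.Limits AlgebraicGeometry TopologicalSpace TensorProduct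

noncomputable section

namespace Groth.Agent.RelES12

open Groth.Agent Groth.Agent.CurveCoh17

section Algebra

variable {R : Type u} [CommRing R] {K M : Type u} [AddCommGroup K] [Module R K] [AddCommGroup M] [Module R M]

theorem injective_rTensor_iff_regular (e : K ≃ₗ[R] R) (j : K →ₗ[R] R) :
    Function.Injective (j.rTensor M) ↔ IsSMulRegular M (j (e.symm 1)) := by
  let a : M ≃ₗ[R] K ⊗[R] M := (TensorProduct.lid R M).symm.trans (TensorProduct.congr e.symm (LinearEquiv.refl R M))
  have key : ⇑(TensorProduct.lid R M) ∘ ⇑(j.rTensor M) ∘ ⇑a = fun m => j (e.symm 1) • m := funext fun m => by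
    simp [a]
  rw [IsSMulRegular, ← key, EquivLike.comp_injective, EquivLike.injective_comp]

theorem injective_rTensor_of_pow {Kn : Type u} [AddCommGroup Kn] [Module R Kn] (e : K ≃ₗ[R] R) (j : K →ₗ[R] R)
    (en : Kn ≃ₗ[R] R) (jn : Kn →ₗ[R] R) (n : ℕ) (hn : j (e.symm 1) ^ n ∈ LinearMap.range jn)
    (h : Function.Injective (j.rTensor M)) : Function.Injective (jn.rTensor M) := by
  rw [injective_rTensor_iff_regular e] at h
  rw [injective_rTensor_iff_regular en]
  obtain ⟨z, hz⟩ := hn
  refine IsSMulRegular.of_smul (a := en z) ?_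
  rw [smul_eq_mul, show en z * jn (en.symm 1) = jn z by
    rw [← smul_eq_mul, ← map_smul, ← map_smul, smul_eq_mul, mul_one, LinearEquiv.symm_apply_apply], hz]
  exact h.pow n

end Algebra

variable {X : Scheme.{u}}

theorem tensorBi_map_app {M N : X.Modules} (φ : M ⟶ N) (F : X.Modules) :
    ((DCoh.tensorBi (X := X)).map φ).app F = M2.tensorMap φ (𝟙 F) := by
  unfold M2.tensorMap
  rw [CategoryTheory.Functor.map_id]
  exact congrArg (M2.shf X).map
    (MonoidalCategory.tensorHom_id (C := M2.PM X.presheaf) ((M2.pmF X).map φ) (M2.pm F)).symm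

/-- Tensoring an exact sequence on the right, the first map staying mono. -/
theorem shortExact_tensor_of_mono {S : ShortComplex X.Modules} (hS : S.ShortExact) (E : X.Modules)
    (hm : Mono (M2.tensorMap S.f (𝟙 E))) : (S.map (M2.tensorR E)).ShortExact := by
  haveI := hS.epi_g
  have hsurj : ∀ x, Function.Surjective (stalkLin S.g x) := (M1.epi_iff_stalk S.g).1 hS.epi_g
  refine { exact := ?_, mono_f := hm, epi_g := ?_ }
  · rw [M1.exact_iff_stalk_eq_zero]
    intro x b hb
    have hex : Function.Exact (stalkLin S.f x) (stalkLin S.g x) := by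
      intro c
      refine ⟨fun hc => (M1.exact_iff_stalk_eq_zero S).1 hS.exact x c hc, ?_⟩
      rintro ⟨a, rfl⟩
      show ((M1.stalkAb x).map S.f ≫ (M1.stalkAb x).map S.g) a = 0
      rw [← Functor.map_comp, S.zero, Functor.map_zero]
      rfl
    have hex' := rTensor_exact (E.presheaf.stalk x) hex (hsurj x)
    have h0 : LinearMap.rTensor (E.presheaf.stalk x) (stalkLin S.g x) (M2.stalkEquiv S.X₂ E x b) = 0 := by
      rw [← stalkEquiv_natural]
      exact (congrArg _ hb).trans (map_zero _)
    obtain ⟨c, hc⟩ := (hex' _).1 h0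
    obtain ⟨a, rfl⟩ := (M2.stalkEquiv S.X₁ E x).surjective c
    refine ⟨a, (M2.stalkEquiv S.X₂ E x).injective ?_⟩
    rw [← hc]
    exact stalkEquiv_natural S.f E x a
  · refine (M1.epi_iff_stalk _).2 fun x b => ?_
    obtain ⟨c, hc⟩ := LinearMap.rTensor_surjective (E.presheaf.stalk x) (hsurj x) (M2.stalkEquiv S.X₃ E x b)
    obtain ⟨a, rfl⟩ := (M2.stalkEquiv S.X₂ E x).surjective c
    refine ⟨a, (M2.stalkEquiv S.X₃ E x).injective ?_⟩
    rw [← hc]
    exact stalkEquiv_natural S.g E x a

/-- A germ of the inclusion of an ideal module in a power. -/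
theorem germ_pow_mem (I : X.IdealSheafData) (n : ℕ) (x : X) {U : X.Opens} (hU : IsAffineOpen U) (hx : x ∈ U)
    (a : Γ(ClSub.idealMod I, U)) :
    (Coh.structureModule X).presheaf.germ U x hx
        (show Γ(Coh.structureModule X, U) from (M2.idealIncl I a) ^ n) ∈
      LinearMap.range (stalkLin (ClSub.idealModι (I ^ n)) x) := by
  have hmem : (M2.idealIncl I a) ^ n ∈ (I ^ n).ideal ⟨U, hU⟩ := by
    rw [Scheme.IdealSheafData.ideal_pow]
    refine Ideal.pow_mem_pow ?_ n
    rw [← SetLike.mem_coe, ← M2.range_idealIncl]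
    exact ⟨a, rfl⟩
  rw [← SetLike.mem_coe, ← M2.range_idealIncl] at hmem
  obtain ⟨b, hb⟩ := hmem
  refine ⟨(ClSub.idealMod (I ^ n)).presheaf.germ U x hx b, ?_⟩
  rw [stalkLin_apply, M1.germ_naturality]
  exact congrArg _ hb

/-- If the ideal is regular on `F`, so are its powers. -/
theorem mono_tensor_pow {I : X.IdealSheafData} (hI : PicF.IsInvertible (ClSub.idealMod I)) (F : X.Modules)
    (hreg : Mono (M2.tensorMap (ClSub.idealModι I) (𝟙 F))) (n : ℕ) :
    Mono (M2.tensorMap (ClSub.idealModι (I ^ n)) (𝟙 F)) := by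
  obtain ⟨ep⟩ := nonempty_idealMod_pow (SecDiv.isEffCartierIdeal_of_isInvertible I hI) n
  have hIn : PicF.IsInvertible (ClSub.idealMod (I ^ n)) :=
    M2.isInvertible_of_iso ep (M2.isInvertible_tensorPow hI n)
  refine (KFlat.Sch.mono_iff_stalk _).2 fun x => ?_
  obtain ⟨eO0⟩ := nonempty_stalk_equiv
    ((M2.isInvertible_iff_isFinLocFreeOfRank_one _).1 (PicLoc.isInvertible_structureModule X)) x
  let eO := eO0.trans (LinearEquiv.funUnique (Fin 1) (X.presheaf.stalk x) (X.presheaf.stalk x))
  obtain ⟨e1⟩ := nonempty_stalk_equiv ((M2.isInvertible_iff_isFinLocFreeOfRank_one _).1 hI) x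
  obtain ⟨en⟩ := nonempty_stalk_equiv ((M2.isInvertible_iff_isFinLocFreeOfRank_one _).1 hIn) x
  let e := e1.trans (LinearEquiv.funUnique (Fin 1) (X.presheaf.stalk x) (X.presheaf.stalk x))
  let e' := en.trans (LinearEquiv.funUnique (Fin 1) (X.presheaf.stalk x) (X.presheaf.stalk x))
  let j : (ClSub.idealMod I).presheaf.stalk x →ₗ[X.presheaf.stalk x] X.presheaf.stalk x :=
    eO.toLinearMap.comp (stalkLin (ClSub.idealModι I) x)
  let jn : (ClSub.idealMod (I ^ n)).presheaf.stalk x →ₗ[X.presheaf.stalk x] X.presheaf.stalk x :=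
    eO.toLinearMap.comp (stalkLin (ClSub.idealModι (I ^ n)) x)
  have hinj : ∀ (J : X.IdealSheafData), Function.Injective ((stalkLin (ClSub.idealModι J) x).rTensor
      (F.presheaf.stalk x)) ↔ Function.Injective (stalkLin (M2.tensorMap (ClSub.idealModι J) (𝟙 F)) x) :=
    fun J => by
      have key : ⇑((stalkLin (ClSub.idealModι J) x).rTensor (F.presheaf.stalk x)) =
          ⇑(M2.stalkEquiv _ F x) ∘ ⇑(stalkLin (M2.tensorMap (ClSub.idealModι J) (𝟙 F)) x) ∘
            ⇑(M2.stalkEquiv _ F x).symm := funext fun a => by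
        simp only [Function.comp_apply]
        rw [stalkEquiv_natural, LinearEquiv.apply_symm_apply]
      rw [key, EquivLike.comp_injective, EquivLike.injective_comp]
  have h1 : Function.Injective (j.rTensor (F.presheaf.stalk x)) := by
    rw [LinearMap.rTensor_comp, LinearMap.coe_comp]
    exact (LinearEquiv.rTensor (F.presheaf.stalk x) eO).injective.comp
      ((hinj I).2 ((KFlat.Sch.mono_iff_stalk _).1 hreg x))
  have hpow : j (e.symm 1) ^ n ∈ LinearMap.range jn := by
    obtain ⟨U, hU, a, ha⟩ := (ClSub.idealMod I).presheaf.exists_germ_eq (e.symm 1)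
    obtain ⟨W, hW, hxW, hWU⟩ := exists_isAffineOpen_mem_and_subset (U := U) hU
    let b := M1.mres (ClSub.idealMod I) hWU a
    have hb : (ClSub.idealMod I).presheaf.germ W x hxW b = e.symm 1 := by
      rw [M1.germ_mres]; exact ha
    let one : (Coh.structureModule X).presheaf.stalk x :=
      (Coh.structureModule X).presheaf.germ W x hxW (M1.one W)
    have hgerm : ∀ f : Γ(X, W), (Coh.structureModule X).presheaf.germ W x hxW
        (show Γ(Coh.structureModule X, W) from f) = X.presheaf.germ W x hxW f • one := fun f => by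
      have h : (show Γ(Coh.structureModule X, W) from f) = f • M1.one W :=
        (mul_one (show Γ(X, W) from f)).symm
      exact (congrArg _ h).trans (M1.germ_smul (Coh.structureModule X) hxW f (M1.one W))
    obtain ⟨c, hc⟩ : ∃ c, c * eO one = 1 := by
      obtain ⟨V, hV, g, hg⟩ := (Coh.structureModule X).presheaf.exists_germ_eq (eO.symm 1)
      obtain ⟨W', hW', hxW', hle⟩ := exists_isAffineOpen_mem_and_subset (U := V ⊓ W) ⟨hV, hxW⟩
      let g' := M1.mres (Coh.structureModule X) (hle.trans inf_le_left) g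
      refine ⟨X.presheaf.germ W' x hxW' (show Γ(X, W') from g'), ?_⟩
      have h' : X.presheaf.germ W' x hxW' (show Γ(X, W') from g') • one = eO.symm 1 := by
        rw [← hg, ← M1.germ_mres (Coh.structureModule X) (hle.trans inf_le_left) hxW' g,
          show one = (Coh.structureModule X).presheaf.germ W' x hxW'
            (M1.mres (Coh.structureModule X) (hle.trans inf_le_right) (M1.one W)) from
            (M1.germ_mres (Coh.structureModule X) (hle.trans inf_le_right) hxW' (M1.one W)).symm, ← M1.germ_smul]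
        congr 1
        show (show Γ(X, W') from g') * (X.presheaf.map _ (1 : Γ(X, W))) = g'
        rw [map_one, mul_one]
      rw [← smul_eq_mul, ← map_smul, h', LinearEquiv.apply_symm_apply]
    have hj : j (e.symm 1) = X.presheaf.germ W x hxW (M2.idealIncl I b) * eO one := by
      rw [← hb]
      show eO (stalkLin (ClSub.idealModι I) x _) = _
      rw [stalkLin_apply, M1.germ_naturality]
      refine (congrArg eO (hgerm (M2.idealIncl I b))).trans ?_
      rw [map_smul, smul_eq_mul]
    obtain ⟨z, hz⟩ := germ_pow_mem I n x hW hxW b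
    rw [hgerm, map_pow] at hz
    refine ⟨(eO one ^ n * c) • z, ?_⟩
    rw [map_smul]
    show (eO one ^ n * c) • eO (stalkLin (ClSub.idealModι (I ^ n)) x z) = _
    rw [hz, map_smul, hj, mul_pow, smul_eq_mul, smul_eq_mul]
    calc _ = X.presheaf.germ W x hxW (M2.idealIncl I b) ^ n * eO one ^ n * (c * eO one) := by ring
      _ = _ := by rw [hc, mul_one]
  have h2 := injective_rTensor_of_pow e j e' jn n hpow h1
  refine (hinj (I ^ n)).1 ?_
  rw [LinearMap.rTensor_comp, LinearMap.coe_comp] at h2
  exact h2.of_comp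

/-- Vanishing of all large twists gives the kernel condition. -/
theorem kerVan_of_subsingleton {F : X.Modules} {K : ℕ → X.Modules} (ι : ∀ m, K m ⟶ F) {i : ℕ} (m₀ : ℕ)
    (h : ∀ m, m₀ ≤ m → Subsingleton (Coh.HH X (K m) i)) : TZ11.KerVan ι i := fun m =>
  ⟨max m m₀, le_max_left _ _, fun u _ x => by
    rw [@Subsingleton.elim _ (h _ (le_max_right _ _)) x 0, map_zero]⟩

theorem isClosed_asFiber {S : Scheme.{u}} (f : X ⟶ S) {x : X} (hx : IsClosed ({x} : Set X)) :
    IsClosed ({f.asFiber x} : Set (f.fiber (f x))) := by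
  convert hx.preimage (f.fiberι (f x)).continuous using 1
  ext w
  simp only [Set.mem_singleton_iff, Set.mem_preimage]
  refine ⟨fun h => h ▸ f.fiberι_asFiber x, fun h => (f.fiberι (f x)).isEmbedding.injective ?_⟩
  exact h.trans (f.fiberι_asFiber x).symm

/-- For the structure module the depth is that of the local ring of the fibre. -/
theorem fdep_structureModule {S : Scheme.{u}} (f : X ⟶ S) [IsLocallyNoetherian X] (x : X) :
    fdep f (Coh.structureModule X) x = LocCoh.depth (CInt.fiberStalk f x) (CInt.fiberStalk f x) := by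
  rw [fdep_eq_fiberDepth, CInt.fiberDepth, ← ES11.depth_structureModule]
  exact DepthLib.idealDepth_congr (LinearEquiv.ofBijective
    (CurveCoh17.stalkLin (PicLoc.pullbackStructureIso (f.fiberι (f x))).hom (f.asFiber x))
    (Snapper.bijective_stalkLin_iso _ _))

/-- The formal comparison for a flat module, given short exact sequences with kernels the negative twists. -/
theorem formal_bijective_of_twists (A : Type u) [CommRing A] [IsNoetherianRing A]
    [X.Over (Spec (CommRingCat.of A))] [IsProper (X ↘ Spec (CommRingCat.of A))] {L L' : X.Modules}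
    (hamp : CohB1.IsAmple L) (e : CohB1.tensorMod L L' ≅ Coh.structureModule X) {G F : X.Modules} (hG : Coh.IsCoh G)
    (hflat : FlatMod.IsFlatOver (X ↘ Spec (CommRingCat.of A)) G) (n : ℕ)
    (hdepth : ∀ x : X, IsClosed ({x} : Set X) → (n : ℕ∞) < fdep (X ↘ Spec (CommRingCat.of A)) G x)
    (Q : ℕ → X.Modules) (π : ∀ m, F ⟶ Q m) (τ : ∀ m, Q (m + 1) ⟶ Q m) (hτ : ∀ m, π (m + 1) ≫ τ m = π m)
    {K : ℕ → X.Modules} (ι : ∀ m, K m ⟶ F) (w : ∀ m, ι m ≫ π m = 0)
    (hS : ∀ m, (ShortComplex.mk (ι m) (π m) (w m)).ShortExact)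
    (hK : ∀ m, Nonempty (K m ≅ CohB1.tensorMod G (CohB1.tensorPow L' (m + 1)))) (i : ℕ) :
    (i ≤ n → ∀ x : Coh.HH X F i, (∀ m, CurveCoh17.hmap A (π m) i x = 0) → x = 0) ∧
      (i < n → ∀ y : ∀ m, Coh.HH X (Q m) i, (∀ m, CurveCoh17.hmap A (τ m) i (y (m + 1)) = y m) →
        ∃ x, ∀ m, CurveCoh17.hmap A (π m) i x = y m) := by
  obtain ⟨m₀, hm⟩ := exists_forall_subsingleton_inverse A hamp e hG n hflat hdepth
  have hker : ∀ j, j ≤ n → TZ11.KerVan ι j := fun j hj => kerVan_of_subsingleton ι m₀ fun m hm' =>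
    CMReg18.van_iso A (hK m).some.symm (hm (m + 1) (by omega) j hj)
  refine ⟨fun hi x hx => ?_, fun hi => (TZ11.formal_bijective A Q π τ hτ ι w hS (hker i hi.le) (hker (i + 1) hi)).2⟩
  obtain ⟨M, hM⟩ := TZ11.exists_injective A Q π τ hτ ι w hS (hker i hi)
  exact hM x (hx M)

end Groth.Agent.RelES12
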