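import Groth.Agent.Lib.RelES12.Formal
import Groth.Agent.Lib.EnriquesSeveri11.Lef
import Groth.Agent.Lib.CartExt13.Divisor

/-!
# The Lefschetz condition for a relatively ample divisor on a flat proper scheme
-/

set_option autoImplicit false
set_option linter.style.haveILetI false
set_option linter.unusedSectionVars false
set_option backward.isDefEq.respectTransparency false

universe u

open CategoryTheory CategoryTheory.Limits AlgebraicGeometry TopologicalSpace Opposite

noncomputable section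

namespace Groth.Agent.RelES12

open Groth.Agent Groth.Agent.ES11

variable {k : Type u} [CommRing k] [IsNoetherianRing k] {X : Scheme.{u}} [X.Over (Spec (CommRingCat.of k))]
  [IsProper (X ↘ (Spec (CommRingCat.of k)))]

/-- A point of a closed set inside an affine open of a proper scheme over an affine base is closed in its fibre. -/
theorem isClosed_asFiber_of_subset_affine {G : X.Opens} (hG : IsAffineOpen G) {Z : Set X} (hZ : IsClosed Z)
    (hZG : Z ⊆ G) {x : X} (hx : x ∈ Z) :
    IsClosed ({(X ↘ Spec (CommRingCat.of k)).asFiber x} :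
      Set ((X ↘ Spec (CommRingCat.of k)).fiber ((X ↘ Spec (CommRingCat.of k)) x))) := by
  let f := X ↘ Spec (CommRingCat.of k)
  let J := Scheme.IdealSheafData.vanishingIdeal ⟨Z, hZ⟩
  have hr : Set.range J.subschemeι = Z := by
    rw [Scheme.IdealSheafData.range_subschemeι]
    simp [J, hZ.closure_eq]
  haveI : IsAffine J.subscheme := by
    have h := hG.preimage J.subschemeι
    rw [show J.subschemeι ⁻¹ᵁ G = ⊤ from top_le_iff.1 fun w _ => hZG (hr ▸ ⟨w, rfl⟩)] at h
    haveI : IsAffine ((⊤ : J.subscheme.Opens) : Scheme.{u}) := h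
    exact IsAffine.of_isIso J.subscheme.topIso.inv
  let g := J.subschemeι ≫ f
  haveI : IsAffineHom g := inferInstance
  haveI : IsFinite g := IsFinite.iff_isProper_and_isAffineHom.2 ⟨inferInstance, inferInstance⟩
  have hfinJ : (g ⁻¹' {f x}).Finite := Scheme.Hom.finite_preimage g (Set.finite_singleton (f x))
  have hfinX : (Z ∩ f ⁻¹' {f x}).Finite := by
    refine (hfinJ.image J.subschemeι).subset fun z hz => ?_
    obtain ⟨w, rfl⟩ := hr.ge hz.1
    exact ⟨w, hz.2, rfl⟩
  let ι := f.fiberι (f x)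
  haveI : LocallyOfFiniteType (f.fiberToSpecResidueField (f x)) :=
    MorphismProperty.pullback_snd _ _ inferInstance
  haveI : JacobsonSpace (f.fiber (f x)) := LocallyOfFiniteType.jacobsonSpace (f.fiberToSpecResidueField (f x))
  have hfinF : (ι ⁻¹' Z).Finite := by
    refine Set.Finite.subset (hfinX.preimage ι.isEmbedding.injective.injOn) fun w hw => ⟨hw, ?_⟩
    have hw' : ι w ∈ Set.range ι := ⟨w, rfl⟩
    rwa [Scheme.Hom.range_fiberι] at hw'
  let p := f.asFiber x
  have hp : p ∈ ι ⁻¹' Z := by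
    show ι p ∈ Z
    rw [f.fiberι_asFiber]; exact hx
  have hfin : (closure ({p} : Set (f.fiber (f x)))).Finite :=
    hfinF.subset ((hZ.preimage ι.continuous).closure_subset_iff.2 (Set.singleton_subset_iff.2 hp))
  have h1 : closure (closure ({p} : Set (f.fiber (f x))) ∩ closedPoints _) = closure ({p} : Set (f.fiber (f x))) :=
    JacobsonSpace.closure_inter_closedPoints isClosed_closure
  have h2 : IsClosed (closure ({p} : Set (f.fiber (f x))) ∩ closedPoints _) := by
    rw [← Set.biUnion_of_singleton (closure ({p} : Set (f.fiber (f x))) ∩ closedPoints _)]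
    exact (hfin.inter_of_left _).isClosed_biUnion fun y hy => hy.2
  rw [h2.closure_eq] at h1
  have hxc : p ∈ closure ({p} : Set (f.fiber (f x))) ∩ closedPoints _ := h1.ge (subset_closure rfl)
  exact hxc.2

section Flat

variable [Flat (X ↘ (Spec (CommRingCat.of k)))]

include k in
/-- A coherent module is covered by a sum of copies of one negative twist. -/
theorem exists_epi_negative {L L' : X.Modules} (hamp : CohB1.IsAmple L)
    (e : CohB1.tensorMod L L' ≅ Coh.structureModule X) {F : X.Modules} (hF : Coh.IsCoh F) :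
    ∃ (a l : ℕ) (p : CohB1.tensorMod (FlatMod.freeMod X l) (CohB1.tensorPow L' a) ⟶ F), Epi p := by
  haveI : AlgebraicGeometry.IsNoetherian X := CohFound.isNoetherian_of_isProper (X ↘ Spec (CommRingCat.of k))
  obtain ⟨a, ha⟩ := RA.exists_globallyGenerated hamp F hF.1 hF.2
  have hT : Coh.IsCoh (CohB1.tensorMod F (CohB1.tensorPow L a)) := CohFound.isCoh_tensor hF
    (Snapper.isCoh_of_isInvertible (M2.isInvertible_tensorPow (Amp.isAmple_iff.1 hamp).1 a))
  obtain ⟨l, p, hp⟩ := GrMod11.exists_epi_freeMod hT.1 hT.2 (ha a le_rfl)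
  haveI := CohFound.epi_tensorMap p (CohB1.tensorPow L' a)
  exact ⟨a, l, M2.tensorMap p (𝟙 _) ≫ (M2.tensorAssoc _ _ _ ≪≫ M2.tensorIso (Iso.refl F) (powInvIso e a) ≪≫
    M2.tensorRUnit F).hom, epi_comp _ _⟩

include k in
/-- Homomorphisms from a coherent module into `O` agree with those into a high infinitesimal neighbourhood. -/
theorem exists_forall_bijective_comp {I : X.IdealSheafData} {L : X.Modules}
    (e : CohB1.tensorMod L (ClSub.idealMod I) ≅ Coh.structureModule X) (hamp : CohB1.IsAmple L)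
    (hdepth : ∀ x : X, IsClosed ({(X ↘ Spec (CommRingCat.of k)).asFiber x} :
        Set ((X ↘ Spec (CommRingCat.of k)).fiber ((X ↘ Spec (CommRingCat.of k)) x))) →
      (2 : ℕ∞) ≤ LocCoh.depth (CInt.fiberStalk (X ↘ Spec (CommRingCat.of k)) x)
        (CInt.fiberStalk (X ↘ Spec (CommRingCat.of k)) x))
    {F : X.Modules} (hF : Coh.IsCoh F) :
    ∃ m₀ : ℕ, ∀ m : ℕ, m₀ ≤ m →
      Function.Bijective fun φ : F ⟶ Coh.structureModule X => φ ≫ ClSub.toSubscheme (I ^ m) := by
  haveI : AlgebraicGeometry.IsNoetherian X := CohFound.isNoetherian_of_isProper (X ↘ Spec (CommRingCat.of k))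
  let L' := ClSub.idealMod I
  have hL : PicF.IsInvertible L := (Amp.isAmple_iff.1 hamp).1
  have hL' : PicF.IsInvertible L' := M2.isInvertible_of_tensor_iso hL (M2.tensorComm _ L ≪≫ e)
  have htw : ∀ a l : ℕ, ∃ m₀ : ℕ, ∀ m : ℕ, m₀ ≤ m → Function.Bijective
      fun φ : CohB1.tensorMod (FlatMod.freeMod X l) (CohB1.tensorPow L' a) ⟶ Coh.structureModule X =>
        φ ≫ ClSub.toSubscheme (I ^ m) := by
    intro a l
    have hLa := M2.isInvertible_tensorPow hL a
    have hfl : FlatMod.IsFlatOver (X ↘ Spec (CommRingCat.of k)) (CohB1.tensorPow L a) := fun x => by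
      obtain ⟨eq'⟩ := nonempty_tensor_equiv (F := Coh.structureModule X) hLa x
      obtain ⟨el⟩ : Nonempty ((CohB1.tensorMod (Coh.structureModule X) (CohB1.tensorPow L a)).presheaf.stalk x ≃ₗ[X.presheaf.stalk x]
          (CohB1.tensorPow L a).presheaf.stalk x) :=
        ⟨LinearEquiv.ofBijective _ (Snapper.bijective_stalkLin_iso (M2.tensorLUnit (CohB1.tensorPow L a)) x)⟩
      exact isFlatOverAt_congr _ x (eq'.symm.trans el) (CartExt13.isFlatOver_structureModule _ x)
    obtain ⟨m₀, hm⟩ := RelES12.exists_forall_subsingleton_inverse k hamp e (Snapper.isCoh_of_isInvertible hLa) 1 hfl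
      fun x hx => by
        obtain ⟨eq'⟩ := nonempty_tensor_equiv (F := Coh.structureModule X) hLa x
        obtain ⟨el⟩ : Nonempty ((CohB1.tensorMod (Coh.structureModule X) (CohB1.tensorPow L a)).presheaf.stalk x ≃ₗ[X.presheaf.stalk x]
            (CohB1.tensorPow L a).presheaf.stalk x) :=
          ⟨LinearEquiv.ofBijective _ (Snapper.bijective_stalkLin_iso (M2.tensorLUnit (CohB1.tensorPow L a)) x)⟩
        rw [← fdep_congr _ x (eq'.symm.trans el), fdep_structureModule]
        exact lt_of_lt_of_le (by norm_num : ((1 : ℕ) : ℕ∞) < 2) (hdepth x (isClosed_asFiber _ hx))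
    refine ⟨m₀, fun m hm' => ?_⟩
    refine bijective_comp_iso _ (M2.freeModTensorIso X l _).symm (bijective_comp_coprod _ ?_)
    refine bijective_comp_of_tensor _ (M2.tensorComm _ _ ≪≫ powInvIso e a : CohB1.tensorMod
      (CohB1.tensorPow L' a) (CohB1.tensorPow L a) ≅ Coh.structureModule X) ?_
    have hS := CohFound.shortExact_tensor_invertible (M2.shortExact_idealMod (I := I ^ m)) hLa
    obtain ⟨ep⟩ := CurveCoh17.nonempty_idealMod_pow (SecDiv.isEffCartierIdeal_of_isInvertible I hL') m
    have hv : ∀ i : ℕ, i ≤ 1 →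
        Subsingleton (Coh.HH X (CohB1.tensorMod (ClSub.idealMod (I ^ m)) (CohB1.tensorPow L a)) i) :=
      fun i hi => CMReg18.van_iso k (M2.tensorComm _ _ ≪≫ M2.tensorIso ep (Iso.refl _)) (hm m hm' i hi)
    exact bijective_unit_comp_of_van k hS (hv 0 zero_le_one) (hv 1 le_rfl)
  obtain ⟨a, l, p, hp⟩ := exists_epi_negative (k := k) hamp e hF
  haveI := hp
  have hPc : Coh.IsCoh (CohB1.tensorMod (FlatMod.freeMod X l) (CohB1.tensorPow L' a)) :=
    CohFound.isCoh_tensor (CohFound.isCoh_of_isFinLocFree (KFlat.Sch.isFinLocFree_freeMod _ l))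
      (Snapper.isCoh_of_isInvertible (M2.isInvertible_tensorPow hL' a))
  obtain ⟨a', l', p', hp'⟩ := exists_epi_negative (k := k) hamp e (M1.isCoh_kernel hPc hF.1 p)
  haveI := hp'
  have w : (p' ≫ kernel.ι p) ≫ p = 0 := by rw [Category.assoc, kernel.condition, comp_zero]
  have hex : (ShortComplex.mk (p' ≫ kernel.ι p) p w).Exact := by
    let φ : ShortComplex.mk (p' ≫ kernel.ι p) p w ⟶ ShortComplex.mk (kernel.ι p) p (kernel.condition p) :=
      { τ₁ := p', τ₂ := 𝟙 _, τ₃ := 𝟙 _ }
    haveI : Epi φ.τ₁ := hp'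
    haveI : IsIso φ.τ₂ := inferInstanceAs (IsIso (𝟙 _))
    haveI : Mono φ.τ₃ := inferInstanceAs (Mono (𝟙 _))
    exact (ShortComplex.exact_iff_of_epi_of_isIso_of_mono φ).2 (ShortComplex.exact_kernel p)
  obtain ⟨m₁, h₁⟩ := htw a l
  obtain ⟨m₂, h₂⟩ := htw a' l'
  exact ⟨max m₁ m₂, fun m hm => bijective_comp_of_presentation _ _ p w hex (h₂ m (le_of_max_le_right hm)).1
    (h₁ m (le_of_max_le_left hm))⟩

include k in
/-- The Lefschetz condition for an ample divisor when the depth at closed points is at least two. -/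
theorem lefCond_of_ample {I : X.IdealSheafData} {L : X.Modules}
    (e : CohB1.tensorMod L (ClSub.idealMod I) ≅ Coh.structureModule X) (hamp : CohB1.IsAmple L)
    (hdepth : ∀ x : X, IsClosed ({(X ↘ Spec (CommRingCat.of k)).asFiber x} :
        Set ((X ↘ Spec (CommRingCat.of k)).fiber ((X ↘ Spec (CommRingCat.of k)) x))) →
      (2 : ℕ∞) ≤ LocCoh.depth (CInt.fiberStalk (X ↘ Spec (CommRingCat.of k)) x)
        (CInt.fiberStalk (X ↘ Spec (CommRingCat.of k)) x)) :
    Lef.LefCond X I := by
  haveI : AlgebraicGeometry.IsNoetherian X := CohFound.isNoetherian_of_isProper (X ↘ Spec (CommRingCat.of k))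
  intro U hU D hD
  have hG := ES11.isAffineOpen_compl_support (X ↘ Spec (CommRingCat.of k)) e hamp
  have hclosed : ∀ z : X, z ∉ U → (2 : ℕ∞) ≤ LocCoh.depth (X.presheaf.stalk z) (X.presheaf.stalk z) :=
    fun z hz => by
      rw [(FlatDepth.stalk_invariants (X ↘ Spec (CommRingCat.of k)) z).1]
      exact le_add_left (hdepth z (isClosed_asFiber_of_subset_affine (k := k) hG U.isOpen.isClosed_compl
        (Set.compl_subset_compl.2 hU) hz))
  have hO : Coh.IsCoh (Coh.structureModule X) :=
    Snapper.isCoh_of_isInvertible (PicLoc.isInvertible_structureModule X)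
  haveI := hO.1
  have hextO : RH26.ExtU U (Coh.structureModule X) := DepthAlong11.extU_of_hasSlicePair _
    (DepthAlong11.hasSlicePair_of_depth _ hO U fun z hz => by
      rw [ES11.depth_structureModule]; exact hclosed z hz)
  have hextQ : ∀ n : ℕ, RH26.ExtU U (ClSub.quotMod (I ^ (n + 1))) := fun n => by
    have hQc : Coh.IsCoh (ClSub.quotMod (I ^ (n + 1))) := CohFound.isCoh_push_closedImm _
      (CohFound.isCoh_of_isFinLocFree (M2.isFinLocFree_of_isInvertible (PicLoc.isInvertible_structureModule _)))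
    haveI := hQc.1
    refine DepthAlong11.extU_of_hasSlicePair _ (DepthAlong11.hasSlicePair_of_depth _ hQc U fun z hz => ?_)
    rw [ES11.depth_push_stalk_notMem]
    · exact le_top
    · rw [Scheme.IdealSheafData.range_subschemeι, Scheme.IdealSheafData.support_pow_succ]
      exact fun h => hz (hU h)
  haveI : AlgebraicGeometry.IsNoetherian (U : Scheme.{u}) := LocImm12.isNoetherian_of_isOpenImmersion U.ι
  obtain ⟨F, α, hF, hα⟩ := KCoh4.exists_ext U.ι (CohFound.isCoh_of_isFinLocFree hD)
  haveI : IsIso ((Scheme.Modules.restrictFunctor U.ι).map α) := hα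
  let eD : (Scheme.Modules.restrictFunctor U.ι).obj F ≅ D :=
    asIso ((Scheme.Modules.restrictFunctor U.ι).map α) ≪≫
      asIso ((Scheme.Modules.restrictAdjunction U.ι).counit.app D)
  obtain ⟨m₀, hm⟩ := exists_forall_bijective_comp (k := k) e hamp hdepth hF
  have hb : ∀ n : ℕ, m₀ ≤ n + 1 → Function.Bijective fun φ : D ⟶ Coh.structureModule (U : Scheme.{u}) =>
      φ ≫ ClSub.toSubscheme ((I.comap U.ι) ^ (n + 1)) := fun n hn => by
    rw [← BlowUpExist.comap_pow]
    exact bijective_comp_restrict U hextO (hextQ n) eD (hm (n + 1) hn)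
  refine ⟨fun φ ψ h => (hb m₀ (Nat.le_succ _)).1 (h m₀), fun y hy => ?_⟩
  obtain ⟨φ, hφ⟩ := (hb m₀ (Nat.le_succ _)).2 (y m₀)
  simp only at hφ
  have hq : ∀ n : ℕ, ClSub.toSubscheme ((I.comap U.ι) ^ (n + 1 + 1)) ≫ Lef.quotMap (Lef.pow_succ_le _ n) =
      ClSub.toSubscheme ((I.comap U.ι) ^ (n + 1)) := fun n => ES11.toSubscheme_quotMap _
  have hup : ∀ j : ℕ, φ ≫ ClSub.toSubscheme ((I.comap U.ι) ^ (m₀ + j + 1)) = y (m₀ + j) := by
    intro j
    induction j with
    | zero => exact hφ
    | succ j ih =>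
      obtain ⟨ψ, hψ⟩ := (hb (m₀ + j + 1) (by omega)).2 (y (m₀ + j + 1))
      simp only at hψ
      have : ψ ≫ ClSub.toSubscheme ((I.comap U.ι) ^ (m₀ + j + 1)) = y (m₀ + j) := by
        rw [← hq, ← Category.assoc, hψ]
        exact hy (m₀ + j)
      rw [(hb (m₀ + j) (by omega)).1 (this.trans ih.symm)] at hψ
      exact hψ
  refine ⟨φ, fun n => ?_⟩
  by_cases hn : m₀ ≤ n
  · obtain ⟨j, rfl⟩ := Nat.exists_eq_add_of_le hn
    exact hup j
  · have hdown : ∀ j : ℕ, j ≤ m₀ → φ ≫ ClSub.toSubscheme ((I.comap U.ι) ^ (m₀ - j + 1)) = y (m₀ - j) := by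
      intro j
      induction j with
      | zero => exact fun _ => hφ
      | succ j ih =>
        intro hj
        have h1 := ih (by omega)
        rw [show m₀ - j = m₀ - (j + 1) + 1 by omega] at h1
        rw [← hq, ← Category.assoc, h1]
        exact hy _
    have := hdown (m₀ - n) (by omega)
    rwa [show m₀ - (m₀ - n) = n by omega] at this

end Flat

end Groth.Agent.RelES12
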