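import Groth.Agent.Lib.RelES12.Vanish
import Groth.Agent.Lib.EnriquesSeveri11.Proper

/-!
# Relative Enriques–Severi–Zariski vanishing on a proper scheme over a Noetherian affine base
-/

set_option autoImplicit false
set_option linter.style.haveILetI false
set_option linter.unusedSectionVars false
set_option backward.isDefEq.respectTransparency false

universe u

open CategoryTheory CategoryTheory.Limits AlgebraicGeometry TopologicalSpace

noncomputable section

namespace Groth.Agent.RelES12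

open Groth.Agent

variable (A : Type u) [CommRing A] [IsNoetherianRing A] {X : Scheme.{u}} [X.Over (Spec (CommRingCat.of A))]
  [IsProper (X ↘ (Spec (CommRingCat.of A)))]

include A in
/-- If every closed point has depth greater than `n`, negative twists by an ample module have no cohomology up to
degree `n`. -/
theorem exists_forall_subsingleton_inverse {L L' : X.Modules} (hamp : CohB1.IsAmple L)
    (e : CohB1.tensorMod L L' ≅ Coh.structureModule X) {F : X.Modules} (hF : Coh.IsCoh F) (n : ℕ)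
    (hflat : FlatMod.IsFlatOver (X ↘ Spec (CommRingCat.of A)) F) (hdepth : ∀ x : X, IsClosed ({x} : Set X) →
      (n : ℕ∞) < fdep (X ↘ Spec (CommRingCat.of A)) F x) :
    ∃ m₀ : ℕ, ∀ m : ℕ, m₀ ≤ m → ∀ i : ℕ, i ≤ n →
      Subsingleton (Coh.HH X (CohB1.tensorMod F (CohB1.tensorPow L' m)) i) := by
  classical
  obtain ⟨N, d, j, hd, hj, hjg, ⟨e1⟩⟩ :=
    CohFound.exists_closedImmersion_pow_of_isAmple (X ↘ Spec (CommRingCat.of A)) hamp
  haveI := hj
  haveI : AlgebraicGeometry.IsNoetherian X := CohFound.isNoetherian_of_isProper (X ↘ Spec (CommRingCat.of A))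
  haveI : IsLocallyNoetherian (CohB1.ProjSpace N A) := CohFound.ProjNum.isLocallyNoetherian_projSpace N A
  have hL : PicF.IsInvertible L := (Amp.isAmple_iff.1 hamp).1
  have hL' : PicF.IsInvertible L' := M2.isInvertible_of_tensor_iso hL (M2.tensorComm L' L ≪≫ e)
  let D := CMReg18.TwistData.pullback (CMReg18.projData A N) j
  have e1' : D.O 1 ≅ CohB1.tensorPow L d := e1
  let u : D.O (-1) ≅ CohB1.tensorPow L' d := M2.inverseUnique (M := CohB1.tensorPow L d)
    (M2.tensorIso e1'.symm (Iso.refl _) ≪≫ D.invIso) (ES11.powInvIso e d)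
  have hq : ∀ q : ℕ, Nonempty (CohB1.tensorPow L' (d * q) ≅ D.O (-(q : ℤ))) := by
    intro q
    induction q with
    | zero => exact ⟨D.zero.symm⟩
    | succ q ih =>
      obtain ⟨i⟩ := ih
      exact ⟨M2.tensorPowAdd L' (d * q) d ≪≫ M2.tensorIso i u.symm ≪≫ D.add _ _ ≪≫
        eqToIso (by congr 1; push_cast; ring)⟩
  let G : ℕ → X.Modules := fun r => CohB1.tensorMod F (CohB1.tensorPow L' r)
  have hGc : ∀ r, Coh.IsCoh (G r) := fun r =>
    CohFound.isCoh_tensor hF (Snapper.isCoh_of_isInvertible (M2.isInvertible_tensorPow hL' r))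
  have hGf : ∀ q, FlatMod.IsFlatOver (j ≫ CohB1.ProjSpace.toSpec N A) (G q) := fun q z => by
    rw [hjg]
    obtain ⟨eq'⟩ := nonempty_tensor_equiv (F := F) (M2.isInvertible_tensorPow hL' q) z
    exact isFlatOverAt_congr _ z eq'.symm (hflat z)
  have hpush : ∀ r i : ℕ, i ≤ n → NegVan ((Scheme.Modules.pushforward j).obj (G r)) i := by
    intro r i hi
    refine negVan_of_fdep_gt (CohFound.isCoh_push_closedImm j (hGc r)) (isFlatOver_push _ j _ (hGf r)) n
      (fun y hy => ?_) hi
    by_cases hyr : y ∈ Set.range j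
    · obtain ⟨z, rfl⟩ := hyr
      have hz : IsClosed ({z} : Set X) := by
        have h := hy.preimage j.continuous
        rwa [← Set.image_singleton, Set.preimage_image_eq _ j.isClosedEmbedding.injective] at h
      obtain ⟨eq'⟩ := nonempty_tensor_equiv (F := F) (M2.isInvertible_tensorPow hL' r) z
      rw [fdep_push, hjg, fdep_congr _ z eq']
      exact hdepth z hz
    · rw [fdep_push_notMem _ j _ hyr]
      exact ENat.natCast_lt_top _
  choose! m₁ hm₁ using hpush
  let q₀ := (Finset.range d ×ˢ Finset.range (n + 1)).sup fun p => (m₁ p.1 p.2).toNat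
  refine ⟨d * (q₀ + 1), fun m hm i hi => ?_⟩
  have hr : m % d < d := Nat.mod_lt _ hd
  have hq0 : (m₁ (m % d) i).toNat ≤ q₀ := Finset.le_sup (f := fun p : ℕ × ℕ => (m₁ p.1 p.2).toNat)
    (b := (m % d, i)) (Finset.mem_product.2 ⟨Finset.mem_range.2 hr, Finset.mem_range.2 (by omega)⟩)
  have hle : q₀ + 1 ≤ m / d := (Nat.le_div_iff_mul_le hd).2 (by rwa [mul_comm] at hm)
  haveI hsub := hm₁ (m % d) i hi ((m / d : ℕ) : ℤ) (by have := Int.self_le_toNat (m₁ (m % d) i); omega)
  obtain ⟨iq⟩ := hq (m / d)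
  let K := (CMReg18.projData A N).O (-((m / d : ℕ) : ℤ))
  let a : CohB1.tensorMod (G (m % d)) ((Scheme.Modules.pullback j).obj K) ≅
      CohB1.tensorMod F (CohB1.tensorPow L' m) :=
    M2.tensorAssoc _ _ _ ≪≫ M2.tensorIso (Iso.refl F) (M2.tensorIso (Iso.refl _) iq.symm ≪≫
      (M2.tensorPowAdd L' (m % d) (d * (m / d))).symm ≪≫ eqToIso (by rw [Nat.mod_add_div]))
  have hK : Coh.IsQCoh K := (Snapper.isCoh_of_isInvertible ((CMReg18.projData A N).inv _)).1
  obtain ⟨p⟩ := CohFound.nonempty_push_tensor_iso j (G (m % d)) (hGc _).1 K hK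
  have hs : Subsingleton (Coh.HH (CohB1.ProjSpace N A)
      ((Scheme.Modules.pushforward j).obj (CohB1.tensorMod (G (m % d)) ((Scheme.Modules.pullback j).obj K))) i) :=
    CMReg18.van_iso A p.symm hsub
  haveI hqc : (CohB1.tensorMod (G (m % d)) ((Scheme.Modules.pullback j).obj K)).IsQuasicoherent :=
    M2.isQCoh_tensor (hGc _).1 (Snapper.isCoh_of_isInvertible (D.inv (-((m / d : ℕ) : ℤ)))).1
  obtain ⟨ev⟩ := CohFound.nonempty_hc_push_isAffineHom j
    (CohB1.tensorMod (G (m % d)) ((Scheme.Modules.pullback j).obj K)) i ⊤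
  exact CMReg18.van_iso A a ((CohFound.subsingleton_HH_iff _ i).2
    (ev.toEquiv.subsingleton_congr.1 ((CohFound.subsingleton_HH_iff _ i).1 hs)))

end Groth.Agent.RelES12
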