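import Groth.Agent.Lib.RelES12.Fibre
import Groth.Agent.Lib.EnriquesSeveri11.NegVan

/-!
# Relative Enriques–Severi–Zariski vanishing on projective space over a Noetherian ring
-/

set_option autoImplicit false
set_option linter.style.haveILetI false
set_option linter.unusedSectionVars false
set_option backward.isDefEq.respectTransparency false

universe u

open CategoryTheory CategoryTheory.Limits AlgebraicGeometry TopologicalSpace

noncomputable section

namespace Groth.Agent.RelES12

open Groth.Agent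

variable (A : Type u) [CommRing A] [IsNoetherianRing A] (r : ℕ)

/-- The first twist is ample. -/
theorem isAmple_one : CohB1.IsAmple ((CMReg18.projData A r).O 1) :=
  Twist.isAmple_twist (CohB1.polyGrading r A) _ (fun i => ProjSpace.X_mem' r A i)
    (ProjSpace.irrelevant_le_span r A) Nat.one_pos

/-- `H^i(P^r_A, O(d)) = 0` for `d < 0` and `i < r`. -/
theorem subsingleton_twist_neg {d : ℤ} (hd : d < 0) {i : ℕ} (hi : i < r) :
    Subsingleton (Coh.HH (CohB1.ProjSpace r A) (_root_.Twist.twistProjSpace r A d) i) := by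
  rcases Nat.eq_zero_or_pos i with rfl | hpos
  · haveI := Twist.subsingleton_sections_twistProjSpace_neg r A hi hd
    exact (CurveCoh17.hh0 _).toEquiv.subsingleton_congr.2 this
  · exact (CohFound.subsingleton_HH_iff _ i).2
      (CohFound.ProjNum.subsingleton_hc_Od (n := r) (R := A) (d := d) i hpos (Or.inr hi.ne))

variable {A r}

/-- Twisting on projective space. -/
abbrev ptw (F : (CohB1.ProjSpace r A).Modules) (a : ℤ) : (CohB1.ProjSpace r A).Modules :=
  (CMReg18.projData A r).tw F a

/-- Vanishing in degree `i` of all sufficiently negative twists. -/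
def NegVan (F : (CohB1.ProjSpace r A).Modules) (i : ℕ) : Prop :=
  ∃ m₀ : ℤ, ∀ m : ℤ, m₀ ≤ m → Subsingleton (Coh.HH (CohB1.ProjSpace r A) (ptw F (-m)) i)

variable {F G : (CohB1.ProjSpace r A).Modules} {i : ℕ}

theorem NegVan.iso (e : F ≅ G) (h : NegVan F i) : NegVan G i :=
  h.imp fun _ hm m hm' => CMReg18.van_iso A (M2.tensorIso e (Iso.refl _)) (hm m hm')

theorem NegVan.twist (h : NegVan F i) (a : ℤ) : NegVan (ptw F a) i := by
  obtain ⟨m₀, hm⟩ := h
  exact ⟨m₀ + a, fun m hm' => CMReg18.van_iso A
    (((CMReg18.projData A r).twIso F (by ring : -(m - a) = a + -m)) ≪≫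
      ((CMReg18.projData A r).twTwist F a (-m)).symm) (hm (m - a) (by omega))⟩

theorem negVan_structureModule (hi : i < r) : NegVan (Coh.structureModule (CohB1.ProjSpace r A)) i :=
  ⟨1, fun m hm => CMReg18.van_iso A (M2.tensorLUnit _).symm
    (subsingleton_twist_neg A r (by omega : (-m : ℤ) < 0) hi)⟩

theorem negVan_twistProjSpace (a : ℤ) (hi : i < r) : NegVan (_root_.Twist.twistProjSpace r A a) i :=
  ((negVan_structureModule hi).twist a).iso (M2.tensorLUnit _)

theorem negVan_of_sum {κ : Type*} (s : Finset κ) {M N : (CohB1.ProjSpace r A).Modules} (a : κ → (M ⟶ N))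
    (b : κ → (N ⟶ M)) (hsum : ∑ j ∈ s, a j ≫ b j = 𝟙 M) (h : NegVan N i) : NegVan M i := by
  classical
  obtain ⟨m₀, hm⟩ := h
  refine ⟨m₀, fun m hm' => subsingleton_of_forall_eq 0 fun x => ?_⟩
  let T := M2.tensorR ((CMReg18.projData A r).O (-m))
  haveI : Subsingleton (Coh.HH (CohB1.ProjSpace r A) (T.obj N) i) := hm m hm'
  have hs : ∀ t : Finset κ, CurveCoh17.hmap A (T.map (∑ j ∈ t, a j ≫ b j)) i x = 0 := by
    intro t
    induction t using Finset.induction_on with
    | empty => rw [Finset.sum_empty, Functor.map_zero]; exact CurveCoh17.hmap_zero A i x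
    | insert j t hj ih =>
      rw [Finset.sum_insert hj, Functor.map_add, CMReg18.hmap_add, ih, add_zero, Functor.map_comp,
        CurveCoh17.hmap_comp]
      rw [show CurveCoh17.hmap A (T.map (a j)) i x = 0 from Subsingleton.elim _ _, map_zero]
  have h1 := hs s
  rw [hsum, CategoryTheory.Functor.map_id, CurveCoh17.hmap_id] at h1
  exact h1

theorem shortExact_twist {S : ShortComplex (CohB1.ProjSpace r A).Modules} (hS : S.ShortExact) (a : ℤ) :
    (S.map (M2.tensorR ((CMReg18.projData A r).O a))).ShortExact :=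
  CohFound.shortExact_tensor_invertible hS ((CMReg18.projData A r).inv a)

/-- A coherent module is covered by a sum of copies of one twist. -/
theorem exists_epi_twisted_free (hF : Coh.IsCoh F) : ∃ (n : ℤ) (l : ℕ)
    (p : ptw (FlatMod.freeMod (CohB1.ProjSpace r A) l) (-n) ⟶ F), Epi p := by
  haveI := (isAmple_one A r).2.1
  obtain ⟨n, hn⟩ := (CMReg18.projData A r).exists_gg_large (isAmple_one A r) hF
  have hT : Coh.IsCoh (ptw F n) :=
    CohFound.isCoh_tensor hF (CohFound.isCoh_of_isFinLocFree
      (M2.isFinLocFree_of_isInvertible ((CMReg18.projData A r).inv n)))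
  obtain ⟨l, p, hp⟩ := GrMod11.exists_epi_freeMod hT.1 hT.2 (hn n le_rfl)
  haveI := CohFound.epi_tensorMap p ((CMReg18.projData A r).O (-n))
  exact ⟨n, l, M2.tensorMap p (𝟙 _) ≫ ((CMReg18.projData A r).twTwist F n (-n) ≪≫
    (CMReg18.projData A r).twIso F (add_neg_cancel n) ≪≫ (CMReg18.projData A r).twZero F).hom, epi_comp _ _⟩

theorem isFinLocFree_twisted_free (l : ℕ) (a : ℤ) :
    FlatMod.IsFinLocFree (ptw (FlatMod.freeMod (CohB1.ProjSpace r A) l) a) :=
  M2.isFinLocFree_tensor (KFlat.Sch.isFinLocFree_freeMod _ l)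
    (M2.isFinLocFree_of_isInvertible ((CMReg18.projData A r).inv a))

theorem negVan_twisted_free (l : ℕ) (a : ℤ) (hi : i < r) :
    NegVan (ptw (FlatMod.freeMod (CohB1.ProjSpace r A) l) a) i := by
  haveI : HasFiniteBiproducts (CohB1.ProjSpace r A).Modules := Abelian.hasFiniteBiproducts
  let O := Coh.structureModule (CohB1.ProjSpace r A)
  let e : (⨁ fun _ : Fin l => O) ≅ FlatMod.freeMod (CohB1.ProjSpace r A) l := biproduct.isoCoproduct _
  refine NegVan.twist (negVan_of_sum Finset.univ (fun j => e.inv ≫ biproduct.π (fun _ : Fin l => O) j)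
    (fun j => biproduct.ι (fun _ : Fin l => O) j ≫ e.hom) ?_ (negVan_structureModule hi)) a
  simp only [Category.assoc]
  rw [← Preadditive.comp_sum]
  simp only [← Category.assoc (biproduct.π _ _)]
  rw [← Preadditive.sum_comp, biproduct.total, Category.id_comp, e.inv_hom_id]

/-- The dual of a twisted free module. -/
theorem negVan_dual_twisted_free (l : ℕ) (n : ℤ) (hi : i < r) :
    NegVan (CohMop.dual (ptw (FlatMod.freeMod (CohB1.ProjSpace r A) l) (-n))) i := by
  haveI : HasFiniteBiproducts (CohB1.ProjSpace r A).Modules := Abelian.hasFiniteBiproducts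
  let O := Coh.structureModule (CohB1.ProjSpace r A)
  let D := CMReg18.projData A r
  let e : (⨁ fun _ : Fin l => O) ≅ FlatMod.freeMod (CohB1.ProjSpace r A) l := biproduct.isoCoproduct _
  obtain ⟨d⟩ := ES11.nonempty_dual_iso_of_inverse (L := D.tw O (-n)) (D := D.O n)
    (M2.isInvertible_tensor (PicLoc.isInvertible_structureModule _) (D.inv (-n)))
    (M2.tensorIso (M2.tensorLUnit (D.O (-n))) (Iso.refl _) ≪≫ D.add (-n) n ≪≫
      eqToIso (by rw [neg_add_cancel]) ≪≫ D.zero)
  have hN : NegVan (CohMop.dual (D.tw O (-n))) i := (negVan_twistProjSpace n hi).iso d.symm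
  let T := M2.tensorR (D.O (-n))
  let π : Fin l → (ptw (FlatMod.freeMod (CohB1.ProjSpace r A) l) (-n) ⟶ D.tw O (-n)) :=
    fun j => T.map (e.inv ≫ biproduct.π (fun _ : Fin l => O) j)
  let ι : Fin l → (D.tw O (-n) ⟶ ptw (FlatMod.freeMod (CohB1.ProjSpace r A) l) (-n)) :=
    fun j => T.map (biproduct.ι (fun _ : Fin l => O) j ≫ e.hom)
  refine negVan_of_sum Finset.univ (fun j => CohMop.ihomMap (ι j) O) (fun j => CohMop.ihomMap (π j) O) ?_ hN
  have h1 : ∀ t : Finset (Fin l), ∑ j ∈ t, CohMop.ihomMap (ι j) O ≫ CohMop.ihomMap (π j) O =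
      CohMop.ihomMap (T.map (∑ j ∈ t, (e.inv ≫ biproduct.π (fun _ : Fin l => O) j) ≫
        biproduct.ι (fun _ : Fin l => O) j ≫ e.hom)) O := by
    intro t
    induction t using Finset.induction_on with
    | empty => rw [Finset.sum_empty, Finset.sum_empty, Functor.map_zero, CohMop.ihomMap_zero]
    | insert j t hj ih =>
      rw [Finset.sum_insert hj, Finset.sum_insert hj, ih, Functor.map_add, CohMop.ihomMap_add,
        CohMop.ihomMap_comp, Functor.map_comp]
  rw [h1]
  simp only [Category.assoc]
  rw [← Preadditive.comp_sum]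
  simp only [← Category.assoc (biproduct.π _ _)]
  rw [← Preadditive.sum_comp, biproduct.total, Category.id_comp, e.inv_hom_id,
    CategoryTheory.Functor.map_id, CohMop.ihomMap_id]
  rfl

/-- Finite locally free modules on `P^r`. -/
theorem negVan_of_isFinLocFree : ∀ i : ℕ, i < r → ∀ {E : (CohB1.ProjSpace r A).Modules},
    FlatMod.IsFinLocFree E → NegVan E i := by
  intro i
  induction i using Nat.strong_induction_on with
  | h i ih =>
    intro hi E hE
    let O := Coh.structureModule (CohB1.ProjSpace r A)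
    have hE' := CohMop.isFinLocFree_dual hE
    obtain ⟨n, l, p, hp⟩ := exists_epi_twisted_free (CohFound.isCoh_of_isFinLocFree hE')
    haveI := hp
    let S : ShortComplex (CohB1.ProjSpace r A).Modules := ShortComplex.mk (kernel.ι p) p (kernel.condition p)
    have hS : S.ShortExact := { exact := ShortComplex.exact_kernel p }
    have hK : FlatMod.IsFinLocFree (kernel p) :=
      DPerf.isFinLocFree_kernel (kernel.ι p) p (kernel.condition p) hS (isFinLocFree_twisted_free l (-n)) hE'
    have hd := ES11.shortExact_dual hS hE'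
    haveI : ModSite.HasSheafHom (O := (CohB1.ProjSpace r A).sheaf) E := CohMop.isLeftAdjoint_tenR _
    haveI := CohMop.isIso_bidual hE
    have hX₂ : NegVan (CohMop.dual S.X₂) i := negVan_dual_twisted_free l n hi
    refine NegVan.iso (asIso (CohMop.bidual E)).symm ?_
    cases i with
    | zero =>
      obtain ⟨m₀, hm⟩ := hX₂
      refine ⟨m₀, fun m hm' => ⟨fun x y => ?_⟩⟩
      exact CurveCoh17.hmap_f_injective A (shortExact_twist hd (-m)) (@Subsingleton.elim _ (hm m hm') _ _)
    | succ i =>
      obtain ⟨m₁, h₁⟩ := hX₂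
      obtain ⟨m₂, h₂⟩ := ih i (Nat.lt_succ_self i) (by omega) (CohMop.isFinLocFree_dual hK)
      exact ⟨max m₁ m₂, fun m hm => CMReg18.van₁ A (shortExact_twist hd (-m))
        (h₂ m (le_of_max_le_right hm)) (h₁ m (le_of_max_le_left hm))⟩

local notation "ℙ" => CohB1.ProjSpace r A
local notation "π" => CohB1.ProjSpace.toSpec r A

theorem isFinLocFree_of_free_closed (hF : Coh.IsCoh F)
    (h : ∀ x : ℙ, IsClosed ({x} : Set ℙ) →
      Module.Free ((CohB1.ProjSpace r A).presheaf.stalk x) (F.presheaf.stalk x)) :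
    FlatMod.IsFinLocFree F := fun x => by
  haveI := (isAmple_one A r).2.1
  haveI : IsLocallyNoetherian ℙ := CohFound.ProjNum.isLocallyNoetherian_projSpace r A
  obtain ⟨y, hy, hyc⟩ := IsClosed.exists_closed_singleton (S := closure ({x} : Set ℙ))
    isClosed_closure ⟨x, subset_closure rfl⟩
  haveI := h y hyc
  obtain ⟨U, n, hyU, e⟩ := M1.exists_freeMod_of_free_stalk (M1.isFP_of_isCoh hF) y
  exact ⟨U, n, (specializes_iff_mem_closure.2 hy).mem_open U.isOpen hyU, e⟩

theorem flat_stalkMap (x : ℙ) : (Scheme.Hom.stalkMap π x).hom.Flat := by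
  haveI : SmoothOfRelativeDimension r π := ProjSpace.smoothOfRelativeDimension_toSpec r A
  haveI : Smooth π := SmoothOfRelativeDimension.smooth r _
  exact Flat.stalkMap π x

theorem isFlatOver_of_isFinLocFree {E : (CohB1.ProjSpace r A).Modules} (hE : FlatMod.IsFinLocFree E) :
    FlatMod.IsFlatOver π E := fun x => by
  haveI := ((M1.isFinLocFree_iff _).1 hE).2 x
  letI : Algebra ((Spec (CommRingCat.of A)).presheaf.stalk (π x)) ((CohB1.ProjSpace r A).presheaf.stalk x) :=
    (Scheme.Hom.stalkMap π x).hom.toAlgebra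
  haveI : Module.Flat ((Spec (CommRingCat.of A)).presheaf.stalk (π x))
      ((CohB1.ProjSpace r A).presheaf.stalk x) := flat_stalkMap x
  letI := FlatMod.moduleStalkOver π E x
  haveI : IsScalarTower ((Spec (CommRingCat.of A)).presheaf.stalk (π x))
      ((CohB1.ProjSpace r A).presheaf.stalk x) (E.presheaf.stalk x) :=
    IsScalarTower.of_algebraMap_smul fun _ _ => rfl
  exact Module.Flat.trans ((Spec (CommRingCat.of A)).presheaf.stalk (π x))
    ((CohB1.ProjSpace r A).presheaf.stalk x) (E.presheaf.stalk x)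

theorem isFlatOver_kernel {G : (CohB1.ProjSpace r A).Modules} (p : G ⟶ F) [Epi p]
    (hG : FlatMod.IsFlatOver π G) (hF : FlatMod.IsFlatOver π F) : FlatMod.IsFlatOver π (kernel p) := fun x => by
  let S : ShortComplex (CohB1.ProjSpace r A).Modules := ShortComplex.mk (kernel.ι p) p (kernel.condition p)
  have hS : S.ShortExact := { exact := ShortComplex.exact_kernel p }
  obtain ⟨h1, h2, h3⟩ := Cyc26.stalkLin_exact hS x
  letI := FlatMod.moduleStalkOver π (kernel p) x
  letI := FlatMod.moduleStalkOver π G x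
  letI := FlatMod.moduleStalkOver π F x
  haveI : Module.Flat ((Spec (CommRingCat.of A)).presheaf.stalk (π x)) (G.presheaf.stalk x) := hG x
  haveI : Module.Flat ((Spec (CommRingCat.of A)).presheaf.stalk (π x)) (F.presheaf.stalk x) := hF x
  let a : (kernel p).presheaf.stalk x →ₗ[(Spec (CommRingCat.of A)).presheaf.stalk (π x)] G.presheaf.stalk x :=
    { toFun := Cyc26.stalkLin S.f x
      map_add' := map_add _
      map_smul' := fun c m => (Cyc26.stalkLin S.f x).map_smul (Scheme.Hom.stalkMap π x c) m }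
  let b : G.presheaf.stalk x →ₗ[(Spec (CommRingCat.of A)).presheaf.stalk (π x)] F.presheaf.stalk x :=
    { toFun := Cyc26.stalkLin S.g x
      map_add' := map_add _
      map_smul' := fun c m => (Cyc26.stalkLin S.g x).map_smul (Scheme.Hom.stalkMap π x c) m }
  haveI := FlatCxLib.flat_ker_of_surjective (f := b) h3
  have hab : LinearMap.ker b = LinearMap.range a := LinearMap.exact_iff.1 h2
  exact Module.Flat.of_linearEquiv ((LinearEquiv.ofInjective a h1).trans (LinearEquiv.ofEq _ _ hab.symm))

/-- Flat coherent modules with depth at least `r - e` in the closed fibres. -/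
theorem negVan_of_fdep : ∀ (e : ℕ) {F : (CohB1.ProjSpace r A).Modules}, Coh.IsCoh F → FlatMod.IsFlatOver π F →
    (∀ x : ℙ, IsClosed ({x} : Set ℙ) → ((r - e : ℕ) : ℕ∞) ≤ fdep π F x) →
    ∀ i : ℕ, i + e < r → NegVan F i := by
  haveI : SmoothOfRelativeDimension r π := ProjSpace.smoothOfRelativeDimension_toSpec r A
  haveI : IsLocallyNoetherian ℙ := CohFound.ProjNum.isLocallyNoetherian_projSpace r A
  intro e
  induction e with
  | zero =>
    intro F hF hfl hd i hi
    refine negVan_of_isFinLocFree i (by omega) (isFinLocFree_of_free_closed hF fun x hx => ?_)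
    haveI := M1.finite_stalk hF.1 hF.2 x
    letI : Algebra ((Spec (CommRingCat.of A)).presheaf.stalk (π x)) ((CohB1.ProjSpace r A).presheaf.stalk x) :=
      (Scheme.Hom.stalkMap π x).hom.toAlgebra
    letI := FlatMod.moduleStalkOver π F x
    haveI : IsScalarTower ((Spec (CommRingCat.of A)).presheaf.stalk (π x))
        ((CohB1.ProjSpace r A).presheaf.stalk x) (F.presheaf.stalk x) :=
      IsScalarTower.of_algebraMap_smul fun _ _ => rfl
    haveI : Module.Flat ((Spec (CommRingCat.of A)).presheaf.stalk (π x)) (F.presheaf.stalk x) := hfl x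
    obtain ⟨hreg, hdep⟩ := regular_fibre π (r := r) hx
    haveI := hreg
    have h0 := hd x hx
    rw [Nat.sub_zero] at h0
    exact free_of_fdepth (IsLocalRing.maximalIdeal _) (fI_le π x) hreg r hdep h0
  | succ e ih =>
    intro F hF hfl hd i hi
    obtain ⟨n, l, p, hp⟩ := exists_epi_twisted_free hF
    haveI := hp
    let S : ShortComplex (CohB1.ProjSpace r A).Modules := ShortComplex.mk (kernel.ι p) p (kernel.condition p)
    have hS : S.ShortExact := { exact := ShortComplex.exact_kernel p }
    have hG := isFinLocFree_twisted_free (A := A) (r := r) l (-n)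
    have hGc := CohFound.isCoh_of_isFinLocFree hG
    have hKc : Coh.IsCoh (kernel p) := M1.isCoh_kernel hGc hF.1 p
    have hKf := isFlatOver_kernel p (isFlatOver_of_isFinLocFree hG) hfl
    have hdK : ∀ x : ℙ, IsClosed ({x} : Set ℙ) → ((r - e : ℕ) : ℕ∞) ≤ fdep π (kernel p) x := fun x hx => by
      haveI := M1.finite_stalk hF.1 hF.2 x
      haveI := M1.finite_stalk hGc.1 hGc.2 x
      haveI := M1.finite_stalk hKc.1 hKc.2 x
      haveI := ((M1.isFinLocFree_iff _).1 hG).2 x
      letI : Algebra ((Spec (CommRingCat.of A)).presheaf.stalk (π x))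
          ((CohB1.ProjSpace r A).presheaf.stalk x) := (Scheme.Hom.stalkMap π x).hom.toAlgebra
      haveI : Module.Flat ((Spec (CommRingCat.of A)).presheaf.stalk (π x))
          ((CohB1.ProjSpace r A).presheaf.stalk x) := flat_stalkMap x
      letI := FlatMod.moduleStalkOver π F x
      letI := FlatMod.moduleStalkOver π (ptw (FlatMod.freeMod ℙ l) (-n)) x
      haveI : IsScalarTower ((Spec (CommRingCat.of A)).presheaf.stalk (π x))
          ((CohB1.ProjSpace r A).presheaf.stalk x) (F.presheaf.stalk x) :=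
        IsScalarTower.of_algebraMap_smul fun _ _ => rfl
      haveI : IsScalarTower ((Spec (CommRingCat.of A)).presheaf.stalk (π x))
          ((CohB1.ProjSpace r A).presheaf.stalk x) ((ptw (FlatMod.freeMod ℙ l) (-n)).presheaf.stalk x) :=
        IsScalarTower.of_algebraMap_smul fun _ _ => rfl
      haveI : Module.Flat ((Spec (CommRingCat.of A)).presheaf.stalk (π x)) (F.presheaf.stalk x) := hfl x
      obtain ⟨h1, h2, h3⟩ := Cyc26.stalkLin_exact hS x
      obtain ⟨hreg, hdep⟩ := regular_fibre π (r := r) hx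
      haveI := hreg
      refine fdepth_ker (IsLocalRing.maximalIdeal _) (fI_le π x) _ _ h1 h2 h3 r hdep _
        (by exact_mod_cast Nat.sub_le r e) ?_
      refine le_trans ?_ (add_le_add_left (hd x hx) 1)
      exact_mod_cast (by omega : r - e ≤ r - (e + 1) + 1)
    obtain ⟨m₁, h₁⟩ := negVan_twisted_free (A := A) (r := r) l (-n) (by omega : i < r)
    obtain ⟨m₂, h₂⟩ := ih hKc hKf hdK (i + 1) (by omega)
    exact ⟨max m₁ m₂, fun m hm => CMReg18.van₃ A (shortExact_twist hS (-m))
      (h₁ m (le_of_max_le_left hm)) (h₂ m (le_of_max_le_right hm))⟩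

theorem isZero_of_fdep_gt (hF : Coh.IsCoh F)
    (h : ∀ x : ℙ, IsClosed ({x} : Set ℙ) → (r : ℕ∞) < fdep π F x) : IsZero F := by
  haveI : SmoothOfRelativeDimension r π := ProjSpace.smoothOfRelativeDimension_toSpec r A
  haveI : IsLocallyNoetherian ℙ := CohFound.ProjNum.isLocallyNoetherian_projSpace r A
  haveI := (isAmple_one A r).2.1
  refine Snapper.isZero_of_support_empty (Set.eq_empty_of_forall_notMem fun x hx => ?_)
  obtain ⟨y, hy, hyc⟩ := IsClosed.exists_closed_singleton (S := closure ({x} : Set ℙ))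
    isClosed_closure ⟨x, subset_closure rfl⟩
  have hys : y ∈ CohB1.support F :=
    (specializes_iff_mem_closure.2 hy).mem_closed (M1.isClosed_support hF.2) hx
  haveI : Nontrivial (F.presheaf.stalk y) := not_subsingleton_iff_nontrivial.1 hys
  haveI := M1.finite_stalk hF.1 hF.2 y
  obtain ⟨hreg, hdep⟩ := regular_fibre π (r := r) hyc
  haveI := hreg
  let O := (CohB1.ProjSpace r A).presheaf.stalk y
  have hdep' : LocCoh.depth (O ⧸ fI π y) (O ⧸ fI π y) = r := hdep
  haveI : Nontrivial ((F.presheaf.stalk y : Type u) ⧸ fI π y • (⊤ : Submodule O (F.presheaf.stalk y))) := by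
    refine Submodule.Quotient.nontrivial_iff.2 fun e => ?_
    have h0 := Submodule.eq_bot_of_le_smul_of_le_jacobson_bot (fI π y) (⊤ : Submodule O (F.presheaf.stalk y))
      Module.Finite.fg_top e.ge ((fI_le π y).trans (IsLocalRing.jacobson_eq_maximalIdeal ⊥ bot_ne_top).ge)
    exact not_subsingleton (F.presheaf.stalk y : Type u)
      (Submodule.subsingleton_iff O |>.1 (subsingleton_of_top_le_bot h0.le) : Subsingleton (F.presheaf.stalk y : Type u))
  haveI : Module.Finite (O ⧸ fI π y)
      ((F.presheaf.stalk y : Type u) ⧸ fI π y • (⊤ : Submodule O (F.presheaf.stalk y))) :=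
    Module.Finite.of_restrictScalars_finite O _ _
  haveI := DepthLib.isCohenMacaulayLocalRing_of_isRegularLocalRing (R := O ⧸ fI π y)
  have hdim := (LocCoh.IsCohenMacaulayLocalRing.supportDim_eq_depth (R := O ⧸ fI π y))
  rw [Module.supportDim_self_eq_ringKrullDim, hdep'] at hdim
  have h1 : ((fdep π F y : ℕ∞) : WithBot ℕ∞) ≤ (r : WithBot ℕ∞) := by
    rw [fdep, depth_quot_eq (fI π y) (fI_le π y) (F.presheaf.stalk y)]
    refine le_trans DepthLib.depth_le_supportDim ?_
    exact (Module.supportDim_le_ringKrullDim _ _).trans hdim.le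
  exact absurd (h y hyc) (not_lt.2 (by exact_mod_cast h1))

theorem negVan_of_fdep_gt (hF : Coh.IsCoh F) (hfl : FlatMod.IsFlatOver π F) (n : ℕ)
    (h : ∀ x : ℙ, IsClosed ({x} : Set ℙ) → (n : ℕ∞) < fdep π F x) {i : ℕ} (hi : i ≤ n) : NegVan F i := by
  by_cases hn : n < r
  · refine negVan_of_fdep (r - (n + 1)) hF hfl (fun x hx => ?_) i (by omega)
    rw [show r - (r - (n + 1)) = n + 1 by omega]
    exact_mod_cast Order.add_one_le_of_lt (h x hx)
  · have hz := isZero_of_fdep_gt hF fun x hx => lt_of_le_of_lt (by exact_mod_cast not_lt.1 hn) (h x hx)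
    exact ⟨0, fun m _ => CMReg18.van_isZero A ((M2.tensorR ((CMReg18.projData A r).O (-m))).map_isZero hz) i⟩

end Groth.Agent.RelES12
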